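/-
Groups in which every involution has abelian centralizer: the strongly embedded normalizer of a centralizer.
-/
import Cfsg.Agent.Lib.Local.Basics

set_option autoImplicit false
set_option linter.unusedSectionVars false

namespace Cfsg.Agent.Classical.InvAb

variable {G : Type*} [Group G]

/-- Involution centralizers are abelian. -/
def IAC (G : Type*) [Group G] : Prop :=
  ∀ t x y : G, t * t = 1 → t ≠ 1 → Commute x t → Commute y t → Commute x y

/-- A non-normal involution centralizer containing a four group. -/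
structure Ctx (A : Subgroup G) : Prop where
  iac : IAC G
  cent : ∃ t : G, t * t = 1 ∧ t ≠ 1 ∧ ∀ x, x ∈ A ↔ Commute x t
  nn : ¬ A.Normal
  four : ∃ a b : G, a ∈ A ∧ b ∈ A ∧ a * a = 1 ∧ b * b = 1 ∧ a ≠ 1 ∧ b ≠ 1 ∧ a ≠ b

/-- The involutions of a subgroup. -/
abbrev Inv (A : Subgroup G) : Type _ := {s : G // s ∈ A ∧ s * s = 1 ∧ s ≠ 1}

/-- `N(A)`. -/
def Hn (A : Subgroup G) : Subgroup G := Subgroup.normalizer (A : Set G)

theorem A_le {A : Subgroup G} : A ≤ Hn A := Subgroup.le_normalizer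

theorem conj_A {A : Subgroup G} {h x : G} (hh : h ∈ Hn A) (hx : x ∈ A) : h * x * h⁻¹ ∈ A :=
  (Subgroup.mem_normalizer_iff.1 hh x).1 hx

theorem conj_A' {A : Subgroup G} {h x : G} (hh : h ∈ Hn A) (hx : x ∈ A) : h⁻¹ * x * h ∈ A := by
  simpa using conj_A (inv_mem hh) hx

theorem invol_inv {s : G} (hs : s * s = 1) : s⁻¹ = s := inv_eq_of_mul_eq_one_right hs

theorem conj_invol {g t : G} (htt : t * t = 1) : g * t * g⁻¹ * (g * t * g⁻¹) = 1 := by
  rw [show g * t * g⁻¹ * (g * t * g⁻¹) = g * (t * t) * g⁻¹ by group, htt]; group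

theorem conj_ne {g t : G} (ht : t ≠ 1) : g * t * g⁻¹ ≠ 1 := fun e => ht (by simpa using e)

theorem eq_sq_pow [Finite G] {y : G} (h : Odd (orderOf y)) : ∃ k : ℕ, y = (y * y) ^ k := by
  obtain ⟨k, hk⟩ := h
  refine ⟨k + 1, ?_⟩
  rw [← pow_two, ← pow_mul, show 2 * (k + 1) = orderOf y + 1 by omega, pow_succ, pow_orderOf_eq_one, one_mul]

theorem invol_pow [Finite G] {x : G} (h : ¬ Odd (orderOf x)) : ∃ k : ℕ, x ^ k * x ^ k = 1 ∧ x ^ k ≠ 1 := by
  rw [Nat.not_odd_iff_even] at h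
  obtain ⟨k, hk⟩ := h
  have := orderOf_pos x
  exact ⟨k, by rw [← pow_add, ← hk, pow_orderOf_eq_one], pow_ne_one_of_lt_orderOf (by omega) (by omega)⟩

variable [Finite G] {A : Subgroup G} (hC : Ctx A)

include hC

theorem comm {x y : G} (hx : x ∈ A) (hy : y ∈ A) : Commute x y := by
  obtain ⟨t, htt, ht1, hA⟩ := hC.cent
  exact hC.iac t x y htt ht1 ((hA x).1 hx) ((hA y).1 hy)

theorem cent_iff {s g : G} (hs : s ∈ A) (hss : s * s = 1) (hs1 : s ≠ 1) : Commute g s ↔ g ∈ A := by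
  obtain ⟨t, htt, ht1, hA⟩ := hC.cent
  refine ⟨fun h => (hA g).2 ?_, fun h => comm hC h hs⟩
  exact hC.iac s g t hss hs1 h ((hA s).1 hs).symm

theorem exists_invol : ∃ t ∈ A, t * t = 1 ∧ t ≠ 1 := by
  obtain ⟨t, htt, ht1, hA⟩ := hC.cent
  exact ⟨t, (hA t).2 (Commute.refl t), htt, ht1⟩

theorem ti {e g : G} (he : e ∈ A) (hee : e * e = 1) (he1 : e ≠ 1) (hg : g * e * g⁻¹ ∈ A) : g ∈ Hn A := by
  refine Subgroup.mem_normalizer_fintype fun x hx => ?_
  refine (cent_iff hC hg (conj_invol hee) (conj_ne he1)).1 ?_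
  show g * x * g⁻¹ * (g * e * g⁻¹) = g * e * g⁻¹ * (g * x * g⁻¹)
  calc g * x * g⁻¹ * (g * e * g⁻¹) = g * (x * e) * g⁻¹ := by group
    _ = g * (e * x) * g⁻¹ := by rw [(comm hC hx he).eq]
    _ = _ := by group

theorem invol_H {s : G} (hs : s ∈ Hn A) (hss : s * s = 1) : s ∈ A := by
  by_cases hs1 : s = 1
  · rw [hs1]; exact one_mem A
  obtain ⟨t, ht, htt, ht1⟩ := exists_invol hC
  have hst : s * t * s ∈ A := by have := conj_A hs ht; rwa [invol_inv hss] at this
  have hst2 : s * t * s * (s * t * s) = 1 := by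
    rw [show s * t * s * (s * t * s) = s * t * (s * s) * t * s by group, hss, mul_one, mul_assoc s t t, htt,
      mul_one, hss]
  obtain ⟨w, hw⟩ : ∃ w, w = t * (s * t * s) := ⟨_, rfl⟩
  have hwA : w ∈ A := hw ▸ mul_mem ht hst
  by_cases h1 : w = 1
  · refine (cent_iff hC ht htt ht1).1 ?_
    rw [hw] at h1
    have h2 : s * t * s = t := by rw [← inv_eq_of_mul_eq_one_right h1, invol_inv htt]
    show s * t = t * s
    calc s * t = s * t * s * s := by rw [mul_assoc, hss, mul_one]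
      _ = t * s := by rw [h2]
  · have hww : w * w = 1 := by
      rw [hw, mul_assoc, ← mul_assoc (s * t * s) t, (comm hC hst ht).eq, mul_assoc t, hst2, mul_one, htt]
    refine (cent_iff hC hwA hww h1).1 ?_
    show s * w = w * s
    have e : w = s * t * s * t := by rw [hw]; exact (comm hC ht hst).eq
    calc s * w = s * (s * t * s * t) := by rw [e]
      _ = (s * s) * t * s * t := by group
      _ = t * s * t := by rw [hss, one_mul]
      _ = t * s * t * (s * s) := by rw [hss, mul_one]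
      _ = w * s := by rw [hw]; group

theorem Hn_ne_top : Hn A ≠ ⊤ := fun e => hC.nn (Subgroup.normalizer_eq_top_iff.1 e)

theorem exists_invol_outside : ∃ u : G, u * u = 1 ∧ u ∉ Hn A := by
  obtain ⟨t, ht, htt, ht1⟩ := exists_invol hC
  obtain ⟨g, hg⟩ : ∃ g : G, g ∉ Hn A := by
    by_contra hno
    push Not at hno
    exact Hn_ne_top hC (eq_top_iff.2 fun g _ => hno g)
  exact ⟨g * t * g⁻¹, conj_invol htt, fun hH => hg (ti hC ht htt ht1 (invol_H hC hH (conj_invol htt)))⟩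

/-- An involution of `A` is conjugate to an involution outside by a power of their product. -/
theorem conj_outside {t s : G} (ht : t ∈ A) (htt : t * t = 1) (ht1 : t ≠ 1) (hs : s * s = 1) (hsA : s ∉ A) :
    ∃ k : ℕ, (s * t) ^ k * t * ((s * t) ^ k)⁻¹ = s := by
  obtain ⟨w, hw⟩ : ∃ w, w = s * t := ⟨_, rfl⟩
  rw [← hw]
  have htw : t * w * t = w⁻¹ := by
    rw [hw, mul_inv_rev, invol_inv hs, invol_inv htt,
      show t * (s * t) * t = t * s * (t * t) by group, htt, mul_one]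
  have htwk : ∀ k : ℕ, t * w ^ k * t = (w ^ k)⁻¹ := by
    intro k
    induction k with
    | zero => simp [htt]
    | succ k ih =>
      rw [show t * w ^ (k + 1) * t = (t * w ^ k * t) * (t * w * t) by
        rw [pow_succ, show t * w ^ k * t * (t * w * t) = t * w ^ k * (t * t) * w * t by group, htt]; group,
        ih, htw, ← mul_inv_rev, ← pow_succ']
  rcases Nat.even_or_odd (orderOf w) with ⟨k, hk⟩ | ⟨k, hk⟩
  · exfalso
    obtain ⟨v, hv⟩ : ∃ v, v = w ^ k := ⟨_, rfl⟩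
    have hk0 : 0 < k := by have := orderOf_pos w; omega
    have hv1 : v ≠ 1 := fun e => by
      have := orderOf_le_of_pow_eq_one hk0 (hv ▸ e)
      omega
    have hvv : v * v = 1 := by rw [hv, ← pow_add, ← hk, pow_orderOf_eq_one]
    have hvt : v * t = t * v := by
      have := htwk k
      rw [← hv, invol_inv hvv] at this
      calc v * t = t * v * t * t := by rw [this]
        _ = t * v := by rw [mul_assoc, htt, mul_one]
    have hvw : v * w = w * v := by rw [hv, ← pow_succ, ← pow_succ']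
    have hvA : v ∈ A := (cent_iff hC ht htt ht1).1 hvt
    have hsv : s * v = v * s := by
      have e : s = w * t := by rw [hw, mul_assoc, htt, mul_one]
      rw [e, mul_assoc w t v, ← hvt, ← mul_assoc, ← hvw, mul_assoc]
    exact hsA ((cent_iff hC hvA hvv hv1).1 hsv)
  · refine ⟨k + 1, ?_⟩
    have h1 : t * w ^ (k + 1) = (w ^ (k + 1))⁻¹ * t := by
      rw [← htwk (k + 1), mul_assoc, htt, mul_one]
    rw [mul_assoc, show t * (w ^ (k + 1))⁻¹ = w ^ (k + 1) * t by
      rw [← mul_right_inj t, ← mul_assoc, htt, one_mul, ← mul_assoc, h1, mul_assoc, htt, mul_one],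
      ← mul_assoc, ← pow_add, show k + 1 + (k + 1) = orderOf w + 1 by omega, pow_succ, pow_orderOf_eq_one,
      one_mul, hw, mul_assoc, htt, mul_one]

/-- The centralizer of any involution is a conjugate of `A`, inside any subgroup containing both involutions. -/
theorem cent_conj {t w : G} (ht : t ∈ A) (htt : t * t = 1) (ht1 : t ≠ 1) (hw : w * w = 1) (hw1 : w ≠ 1) :
    ∃ k : ℕ, ∀ x, Commute x w ↔ ((w * t) ^ k)⁻¹ * x * (w * t) ^ k ∈ A := by
  by_cases hwA : w ∈ A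
  · exact ⟨0, fun x => by simpa using cent_iff hC hwA hw hw1⟩
  obtain ⟨k, hk⟩ := conj_outside hC ht htt ht1 hw hwA
  refine ⟨k, fun x => ?_⟩
  obtain ⟨h, hh⟩ : ∃ h, h = (w * t) ^ k := ⟨_, rfl⟩
  rw [← hh] at hk ⊢
  rw [← cent_iff hC ht htt ht1]
  conv_lhs => rw [← hk]
  constructor <;> intro e
  · show h⁻¹ * x * h * t = t * (h⁻¹ * x * h)
    calc h⁻¹ * x * h * t = h⁻¹ * (x * (h * t * h⁻¹)) * h := by group
      _ = h⁻¹ * ((h * t * h⁻¹) * x) * h := by rw [e.eq]
      _ = _ := by group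
  · show x * (h * t * h⁻¹) = h * t * h⁻¹ * x
    calc x * (h * t * h⁻¹) = h * ((h⁻¹ * x * h) * t) * h⁻¹ := by group
      _ = h * (t * (h⁻¹ * x * h)) * h⁻¹ := by rw [e.eq]
      _ = _ := by group

/-- An element all whose conjugates lie in `A` is central. -/
theorem central_of {x : G} (hx : ∀ g : G, g * x * g⁻¹ ∈ A) (g : G) : Commute g x := by
  obtain ⟨t, ht, htt, ht1⟩ := exists_invol hC
  have hxA : x ∈ A := by simpa using hx 1
  have hi : ∀ g : G, Commute (g * t * g⁻¹) x := fun g => by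
    have h1 : Commute (g⁻¹ * x * g) t := comm hC (by simpa using hx g⁻¹) ht
    show g * t * g⁻¹ * x = x * (g * t * g⁻¹)
    calc g * t * g⁻¹ * x = g * (t * (g⁻¹ * x * g)) * g⁻¹ := by group
      _ = g * ((g⁻¹ * x * g) * t) * g⁻¹ := by rw [h1.eq]
      _ = _ := by group
  have key : ∀ g : G, g * t * g⁻¹ ∉ A → Commute g x := fun g hg => by
    obtain ⟨k, hk⟩ := conj_outside hC ht htt ht1 (conj_invol htt) hg
    obtain ⟨h, hh⟩ : ∃ h, h = (g * t * g⁻¹ * t) ^ k := ⟨_, rfl⟩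
    rw [← hh] at hk
    have hhx : Commute h x := hh ▸ ((hi g).mul_left (comm hC ht hxA)).pow_left k
    have ha : h⁻¹ * g ∈ A := (cent_iff hC ht htt ht1).1 (by
      show h⁻¹ * g * t = t * (h⁻¹ * g)
      calc h⁻¹ * g * t = h⁻¹ * (g * t * g⁻¹) * g := by group
        _ = h⁻¹ * (h * t * h⁻¹) * g := by rw [hk]
        _ = _ := by group)
    have := hhx.mul_left (comm hC ha hxA)
    rwa [mul_inv_cancel_left] at this
  by_cases hg : g * t * g⁻¹ ∈ A
  · obtain ⟨u, huu, hu⟩ := exists_invol_outside hC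
    have hug : u * g * t * (u * g)⁻¹ ∉ A := fun e => by
      refine hu (ti hC hg (conj_invol htt) (conj_ne ht1) ?_)
      rwa [show u * (g * t * g⁻¹) * u⁻¹ = u * g * t * (u * g)⁻¹ by group]
    have hux : Commute u x := by
      obtain ⟨k, hk⟩ := conj_outside hC ht htt ht1 huu (fun e => hu (A_le e))
      have := hi ((u * t) ^ k)
      rwa [hk] at this
    have := hux.mul_left (key (u * g) hug)
    rwa [← mul_assoc, huu, one_mul] at this
  · exact key g hg

theorem exists_sylow_le : ∃ T : Sylow 2 G, (T : Subgroup G) ≤ A := by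
  classical
  haveI : Fact (Nat.Prime 2) := ⟨Nat.prime_two⟩
  obtain ⟨t, ht, htt, ht1⟩ := exists_invol hC
  have hp : IsPGroup 2 (Subgroup.zpowers t) := IsPGroup.of_card (n := 1) (by
    rw [Nat.card_zpowers, pow_one]; exact orderOf_eq_prime (by rw [sq]; exact htt) ht1)
  obtain ⟨T, hT⟩ := hp.exists_le_sylow
  refine ⟨T, fun x hx => ?_⟩
  have htT := hT (Subgroup.mem_zpowers t)
  haveI : Nontrivial (T : Subgroup G) := ⟨⟨t, htT⟩, 1, fun e => ht1 (congrArg Subtype.val e)⟩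
  haveI := T.isPGroup'.center_nontrivial
  obtain ⟨z, hzo⟩ := exists_prime_orderOf_dvd_card' (G := Subgroup.center (T : Subgroup G)) 2 (by
    obtain ⟨n, hn⟩ := IsPGroup.iff_card.1 (T.isPGroup'.to_subgroup (Subgroup.center (T : Subgroup G)))
    have h1 : 1 < Nat.card (Subgroup.center (T : Subgroup G)) := Finite.one_lt_card
    rcases n with _ | n
    · rw [hn, pow_zero] at h1; omega
    · rw [hn]; exact dvd_pow_self 2 (by omega))
  have hzo' : orderOf ((z : (T : Subgroup G)) : G) = 2 := by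
    rw [Subgroup.orderOf_coe, Subgroup.orderOf_coe]; exact hzo
  have hzz : ((z : (T : Subgroup G)) : G) * ((z : (T : Subgroup G)) : G) = 1 := by
    have h := pow_orderOf_eq_one ((z : (T : Subgroup G)) : G)
    rwa [hzo', sq] at h
  have hz1 : ((z : (T : Subgroup G)) : G) ≠ 1 := fun e => by rw [e, orderOf_one] at hzo'; omega
  have hzc : ∀ y : (T : Subgroup G), Commute (y : G) ((z : (T : Subgroup G)) : G) := fun y =>
    congrArg Subtype.val (Subgroup.mem_center_iff.1 z.2 y)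
  exact (cent_iff hC ((cent_iff hC ht htt ht1).1 (hzc ⟨t, htT⟩).symm) hzz hz1).1 (hzc ⟨x, hx⟩)

theorem no_invol_D {g x : G} (hg : g ∉ Hn A) (hx : x ∈ Hn A) (hgx : g⁻¹ * x * g ∈ Hn A) (hxx : x * x = 1) :
    x = 1 := by
  by_contra hx1
  have h1 := invol_H hC hx hxx
  have h2 := invol_H hC hgx (by rw [show g⁻¹ * x * g * (g⁻¹ * x * g) = g⁻¹ * (x * x) * g by group, hxx]; group)
  exact hg (inv_mem_iff.1 (ti hC h1 hxx hx1 (g := g⁻¹) (by rwa [inv_inv])))

theorem odd_D {g x : G} (hg : g ∉ Hn A) (hx : x ∈ Hn A) (hgx : g⁻¹ * x * g ∈ Hn A) : Odd (orderOf x) := by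
  by_contra h
  obtain ⟨k, hk, hk1⟩ := invol_pow h
  refine hk1 (no_invol_D hC hg (pow_mem hx k) ?_ hk)
  have := pow_mem hgx k
  rwa [show g⁻¹ * x * g = g⁻¹ * x * g⁻¹⁻¹ by group, conj_pow, inv_inv] at this

theorem conj_H {t t' : G} (ht : t ∈ A) (htt : t * t = 1) (ht1 : t ≠ 1) (ht' : t' ∈ A) (ht't' : t' * t' = 1)
    (ht'1 : t' ≠ 1) : ∃ g ∈ Hn A, g * t * g⁻¹ = t' := by
  obtain ⟨u, huu, huH⟩ := exists_invol_outside hC
  have huA : u ∉ A := fun e => huH (A_le e)
  obtain ⟨a, ha⟩ := conj_outside hC ht htt ht1 huu huA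
  obtain ⟨b, hb⟩ := conj_outside hC ht' ht't' ht'1 huu huA
  obtain ⟨c, hc⟩ : ∃ c, c = ((u * t') ^ b)⁻¹ * (u * t) ^ a := ⟨_, rfl⟩
  have e : c * t * c⁻¹ = t' := by
    rw [hc, show ((u * t') ^ b)⁻¹ * (u * t) ^ a * t * (((u * t') ^ b)⁻¹ * (u * t) ^ a)⁻¹ =
      ((u * t') ^ b)⁻¹ * ((u * t) ^ a * t * ((u * t) ^ a)⁻¹) * (u * t') ^ b by group, ha]
    calc ((u * t') ^ b)⁻¹ * u * (u * t') ^ b
        = ((u * t') ^ b)⁻¹ * ((u * t') ^ b * t' * ((u * t') ^ b)⁻¹) * (u * t') ^ b := by rw [hb]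
      _ = t' := by group
  exact ⟨c, ti hC ht htt ht1 (e.symm ▸ ht'), e⟩

theorem card_H : Nat.card (Hn A) = Nat.card A * Nat.card (Inv A) := by
  classical
  obtain ⟨t, ht, htt, ht1⟩ := exists_invol hC
  choose s hsH hs using fun x : Inv A => conj_H hC ht htt ht1 x.2.1 x.2.2.1 x.2.2.2
  have e : A × Inv A ≃ Hn A := by
    refine Equiv.ofBijective (fun p => ⟨s p.2 * p.1, mul_mem (hsH p.2) (A_le p.1.2)⟩) ⟨?_, ?_⟩
    · rintro ⟨a, x⟩ ⟨b, y⟩ hxy
      have h1 : s x * a = s y * b := congrArg Subtype.val hxy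
      have hc : ∀ (z : Inv A) (c : A), s z * c * t * (s z * c)⁻¹ = (z : G) := fun z c => by
        rw [mul_assoc (s z) (c : G) t, (comm hC c.2 ht).eq, ← mul_assoc (s z) t, mul_inv_rev,
          show s z * t * c * ((c : G)⁻¹ * (s z)⁻¹) = s z * t * (s z)⁻¹ by group, hs]
      have hxy' : x = y := Subtype.ext (by rw [← hc x a, ← hc y b, h1])
      subst hxy'
      exact Prod.ext (Subtype.ext (mul_left_cancel h1)) rfl
    · rintro ⟨g, hg⟩
      obtain ⟨z, hz⟩ : ∃ z : Inv A, (z : G) = g * t * g⁻¹ :=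
        ⟨⟨_, conj_A hg ht, conj_invol htt, conj_ne ht1⟩, rfl⟩
      have h2 := (hs z).trans hz
      have haA : (s z)⁻¹ * g ∈ A := by
        refine (cent_iff hC ht htt ht1).1 ?_
        show (s z)⁻¹ * g * t = t * ((s z)⁻¹ * g)
        calc (s z)⁻¹ * g * t = (s z)⁻¹ * (g * t * g⁻¹) * g := by group
          _ = (s z)⁻¹ * (s z * t * (s z)⁻¹) * g := by rw [h2]
          _ = _ := by group
      exact ⟨(⟨_, haA⟩, z), Subtype.ext (mul_inv_cancel_left _ _)⟩
  rw [← Nat.card_congr e, Nat.card_prod]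

theorem two_le_inv : 2 ≤ Nat.card (Inv A) := by
  obtain ⟨a, b, ha, hb, haa, hbb, ha1, hb1, hab⟩ := hC.four
  haveI : Nontrivial (Inv A) :=
    ⟨⟨a, ha, haa, ha1⟩, ⟨b, hb, hbb, hb1⟩, fun e => hab (congrArg Subtype.val e)⟩
  exact Finite.one_lt_card

omit hC

/-- An involution outside `N(A)` fixes the elements of `A` which it maps into `A`. -/
def HFix (A : Subgroup G) : Prop :=
  ∀ s x : G, s * s = 1 → s ∉ Hn A → x ∈ A → s * x * s ∈ A → s * x * s = x

include hC

/-- Each coset outside `N(A)` contains involutions inverting its two-point stabilizer modulo `A`. -/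
theorem coset_facts (hfix : HFix A) {g : G} (hg : g ∉ Hn A) :
    (∃ s : G, s * s = 1 ∧ g⁻¹ * s ∈ Hn A) ∧
    ∀ s : G, s * s = 1 → g⁻¹ * s ∈ Hn A → ∀ h ∈ Hn A,
      ∃ j, j ∈ Hn A ∧ g⁻¹ * j * g ∈ Hn A ∧ s * j * s = j⁻¹ ∧ j⁻¹ * h ∈ A := by
  classical
  haveI : Fintype G := Fintype.ofFinite G
  obtain ⟨m, hm⟩ : ∃ m, m = Nat.card (Inv A) := ⟨_, rfl⟩
  obtain ⟨t, ht, htt, ht1⟩ := exists_invol hC
  have hm0 : 0 < m := by
    haveI : Nonempty (Inv A) := ⟨⟨t, ht, htt, ht1⟩⟩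
    exact hm ▸ Nat.card_pos
  haveI hAn : (A.subgroupOf (Hn A)).Normal := Subgroup.normal_in_normalizer
  have hidx : Nat.card (Hn A ⧸ A.subgroupOf (Hn A)) = m := by
    have h1 := Subgroup.card_eq_card_quotient_mul_card_subgroup (A.subgroupOf (Hn A))
    rw [card_H hC, Nat.card_congr (Subgroup.subgroupOfEquivOfLe (A_le (A := A))).toEquiv, ← hm, mul_comm] at h1
    exact (Nat.eq_of_mul_eq_mul_right Nat.card_pos h1).symm
  let I : G ⧸ Hn A → Finset G := fun x =>
    Finset.univ.filter (fun s : G => s * s = 1 ∧ s ≠ 1 ∧ (QuotientGroup.mk s : G ⧸ Hn A) = x)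
  have hI : ∀ (x : G) (s : G), s ∈ I (QuotientGroup.mk x) ↔ s * s = 1 ∧ s ≠ 1 ∧ x⁻¹ * s ∈ Hn A := by
    intro x s
    simp only [I, Finset.mem_filter, Finset.mem_univ, true_and]
    rw [eq_comm (a := (QuotientGroup.mk s : G ⧸ Hn A)), QuotientGroup.eq]
  have pair : ∀ {x s s' : G}, s ∈ I (QuotientGroup.mk x) → s' ∈ I (QuotientGroup.mk x) →
      s * s' ∈ Hn A ∧ x⁻¹ * (s * s') * x ∈ Hn A ∧ s * (s * s') * s = (s * s')⁻¹ := by
    intro x s s' hs hs'
    obtain ⟨hss, -, hsx⟩ := (hI x s).1 hs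
    obtain ⟨hss', -, hsx'⟩ := (hI x s').1 hs'
    refine ⟨?_, ?_, ?_⟩
    · have := mul_mem (inv_mem hsx) hsx'
      rwa [mul_inv_rev, inv_inv, invol_inv hss, mul_assoc, mul_inv_cancel_left] at this
    · have := mul_mem hsx (inv_mem hsx')
      rwa [mul_inv_rev, inv_inv, invol_inv hss',
        show x⁻¹ * s * (s' * x) = x⁻¹ * (s * s') * x by group] at this
    · rw [mul_inv_rev, invol_inv hss', invol_inv hss,
        show s * (s * s') * s = (s * s) * s' * s by group, hss, one_mul]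
  have hnum : (Finset.univ.filter (fun s : G => s * s = 1 ∧ s ≠ 1)).card * Nat.card A = Nat.card G := by
    have hall : ∀ s : {s : G // s * s = 1 ∧ s ≠ 1}, ∃ g : G, g * t * g⁻¹ = s.1 := fun s => by
      by_cases hsA : s.1 ∈ A
      · obtain ⟨g, -, e⟩ := conj_H hC ht htt ht1 hsA s.2.1 s.2.2
        exact ⟨g, e⟩
      · obtain ⟨k, e⟩ := conj_outside hC ht htt ht1 s.2.1 hsA
        exact ⟨_, e⟩
    choose c hc using hall
    have e : {s : G // s * s = 1 ∧ s ≠ 1} × A ≃ G := by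
      refine Equiv.ofBijective (fun p => c p.1 * p.2) ⟨?_, ?_⟩
      · rintro ⟨x, a⟩ ⟨y, b⟩ hxy
        replace hxy : c x * a = c y * b := hxy
        have hcj : ∀ (z : {s : G // s * s = 1 ∧ s ≠ 1}) (a : A), c z * a * t * (c z * a)⁻¹ = z.1 := fun z a => by
          rw [mul_assoc (c z) (a : G) t, (comm hC a.2 ht).eq, ← mul_assoc (c z) t, mul_inv_rev,
            show c z * t * a * ((a : G)⁻¹ * (c z)⁻¹) = c z * t * (c z)⁻¹ by group, hc]
        have hxy' : x = y := Subtype.ext (by rw [← hcj x a, ← hcj y b, hxy])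
        subst hxy'
        exact Prod.ext rfl (Subtype.ext (mul_left_cancel hxy))
      · intro y
        obtain ⟨z, hz⟩ : ∃ z : {s : G // s * s = 1 ∧ s ≠ 1}, z.1 = y * t * y⁻¹ :=
          ⟨⟨_, conj_invol htt, conj_ne ht1⟩, rfl⟩
        have h2 := (hc z).trans hz
        refine ⟨(z, ⟨(c z)⁻¹ * y, (cent_iff hC ht htt ht1).1 ?_⟩), mul_inv_cancel_left _ _⟩
        show (c z)⁻¹ * y * t = t * ((c z)⁻¹ * y)
        calc (c z)⁻¹ * y * t = (c z)⁻¹ * (y * t * y⁻¹) * y := by group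
          _ = (c z)⁻¹ * (c z * t * (c z)⁻¹) * y := by rw [h2]
          _ = _ := by group
    rw [← Nat.card_congr e, Nat.card_prod, Nat.card_eq_fintype_card (α := {s : G // s * s = 1 ∧ s ≠ 1}),
      Fintype.card_subtype]
  have hnum' : (Finset.univ.filter (fun s : G => s * s = 1 ∧ s ≠ 1)).card = Nat.card (G ⧸ Hn A) * m := by
    have h1 := Subgroup.card_eq_card_quotient_mul_card_subgroup (Hn A)
    rw [card_H hC, ← hm, ← hnum, mul_comm (Nat.card A) m, ← mul_assoc] at h1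
    exact Nat.eq_of_mul_eq_mul_right Nat.card_pos h1
  have hsum : (Finset.univ.filter (fun s : G => s * s = 1 ∧ s ≠ 1)).card = ∑ x : G ⧸ Hn A, (I x).card := by
    rw [Finset.card_eq_sum_card_fiberwise (t := Finset.univ) (f := fun s : G => (QuotientGroup.mk s : G ⧸ Hn A))
      (fun s _ => Finset.mem_univ _)]
    refine Finset.sum_congr rfl fun x _ => congrArg Finset.card ?_
    ext s; simp [I, and_assoc]
  have hinj : ∀ (x s : G), x ∉ Hn A → ∀ hs : s ∈ I (QuotientGroup.mk x), Function.Injective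
      fun s' : ↥(I (QuotientGroup.mk x)) =>
        ((⟨s * s'.1, (pair hs s'.2).1⟩ : Hn A) : Hn A ⧸ A.subgroupOf (Hn A)) := by
    intro x s hx hs a b e
    rw [QuotientGroup.eq] at e
    have hA : (s * a.1)⁻¹ * (s * b.1) ∈ A := e
    obtain ⟨d, hd⟩ : ∃ d, d = s * a.1 := ⟨_, rfl⟩
    obtain ⟨d', hd'⟩ : ∃ d', d' = s * b.1 := ⟨_, rfl⟩
    obtain ⟨hdM, hdM', hdi⟩ := pair hs a.2
    obtain ⟨hd'M, hd'M', hd'i⟩ := pair hs b.2
    rw [← hd] at hdM hdM' hdi hA
    rw [← hd'] at hd'M hd'M' hd'i hA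
    obtain ⟨hss, -, hsx⟩ := (hI x s).1 hs
    have hsM : s ∉ Hn A := fun hm' => hx (by
      have := mul_mem hm' (inv_mem hsx)
      rwa [mul_inv_rev, inv_inv, ← mul_assoc, mul_inv_cancel, one_mul] at this)
    obtain ⟨y, hy⟩ : ∃ y, y = d⁻¹ * d' := ⟨_, rfl⟩
    rw [← hy] at hA
    have hd'e : d' = d * y := by rw [hy, mul_inv_cancel_left]
    have hsys : s * y * s = d * y⁻¹ * d⁻¹ := by
      calc s * y * s = (s * d * s)⁻¹ * (s * d' * s) := by
            rw [hy, mul_inv_rev, mul_inv_rev, invol_inv hss]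
            calc s * (d⁻¹ * d') * s = s * d⁻¹ * (s * s) * d' * s := by rw [hss]; group
              _ = _ := by group
        _ = d * d'⁻¹ := by rw [hdi, hd'i, inv_inv]
        _ = _ := by rw [hd'e]; group
    have hfx := hfix s y hss hsM hA (hsys ▸ conj_A hdM (inv_mem hA))
    rw [hsys] at hfx
    have hdd : Commute (d * d) y := by
      have h3 : d * y * d⁻¹ = y⁻¹ := by
        rw [← inv_inj, inv_inv, mul_inv_rev, mul_inv_rev, inv_inv, ← mul_assoc]
        exact hfx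
      show d * d * y = y * (d * d)
      calc d * d * y = d * (d * y * d⁻¹) * d⁻¹ * (d * d) := by group
        _ = d * y⁻¹ * d⁻¹ * (d * d) := by rw [h3]
        _ = _ := by rw [hfx]
    obtain ⟨k, hk⟩ := eq_sq_pow (odd_D hC hx hdM hdM')
    have hdy : Commute d y := by rw [hk]; exact hdd.pow_left k
    have hyy : y * y = 1 := by
      rw [← (hdy.inv_right).eq.symm, mul_assoc, mul_inv_cancel, mul_one] at hfx
      calc y * y = y⁻¹ * y := by rw [hfx]
        _ = 1 := inv_mul_cancel y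
    have hy1 : y = 1 := by
      refine no_invol_D hC hx (A_le hA) ?_ hyy
      have := mul_mem (inv_mem hdM') hd'M'
      rw [show (x⁻¹ * d * x)⁻¹ * (x⁻¹ * d' * x) = x⁻¹ * (d⁻¹ * d') * x by group, ← hy] at this
      exact this
    rw [hy1, mul_one, hd, hd', mul_right_inj] at hd'e
    exact Subtype.ext hd'e.symm
  have hle : ∀ x : G ⧸ Hn A, (I x).card ≤ m := by
    intro x
    obtain ⟨x, rfl⟩ := QuotientGroup.mk_surjective x
    by_cases hx : x ∈ Hn A
    · rw [hm, ← Nat.card_eq_finsetCard]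
      refine Nat.card_le_card_of_injective (fun s => (⟨s.1, ?_, ((hI x s.1).1 s.2).1, ((hI x s.1).1 s.2).2.1⟩ : Inv A))
        fun a b e => Subtype.ext (congrArg (fun w : Inv A => (w : G)) e)
      obtain ⟨h1, -, h3⟩ := (hI x s.1).1 s.2
      exact invol_H hC (by simpa using mul_mem hx h3) h1
    · rcases (I (QuotientGroup.mk x)).eq_empty_or_nonempty with h0 | ⟨s, hs⟩
      · rw [h0]; simp
      rw [← hidx, ← Nat.card_eq_finsetCard]
      exact Nat.card_le_card_of_injective _ (hinj x s hx hs)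
  have heq : ∀ x : G ⧸ Hn A, (I x).card = m := by
    have := (Finset.sum_eq_sum_iff_of_le (s := Finset.univ) (fun x _ => hle x)).1 (by
      rw [← hsum, hnum', Finset.sum_const, Finset.card_univ, smul_eq_mul, Nat.card_eq_fintype_card])
    exact fun x => this x (Finset.mem_univ _)
  obtain ⟨s₀, hs₀⟩ : (I (QuotientGroup.mk g)).Nonempty := Finset.card_pos.1 (by rw [heq]; omega)
  refine ⟨⟨s₀, ((hI g s₀).1 hs₀).1, ((hI g s₀).1 hs₀).2.2⟩, fun s hss hsg h hh => ?_⟩
  have hs1 : s ≠ 1 := fun e => hg (inv_mem_iff.1 (by simpa [e] using hsg))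
  have hs : s ∈ I (QuotientGroup.mk g) := (hI g s).2 ⟨hss, hs1, hsg⟩
  obtain ⟨⟨s', hs'⟩, hsd⟩ := ((Nat.bijective_iff_injective_and_card _).2
    ⟨hinj g s hg hs, by rw [Nat.card_eq_finsetCard, heq, hidx]⟩).2
      ((⟨h, hh⟩ : Hn A) : Hn A ⧸ A.subgroupOf (Hn A))
  rw [QuotientGroup.eq] at hsd
  obtain ⟨h1, h2, h3⟩ := pair hs hs'
  exact ⟨_, h1, h2, h3, hsd⟩

end Cfsg.Agent.Classical.InvAb
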