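/-
The centralizer of a two-point stabilizer element modulo a central subgroup.
-/
import Cfsg.Agent.Lib.Classical.InvAb.Basic

set_option autoImplicit false
set_option linter.unusedSectionVars false

namespace Cfsg.Agent.Classical.InvAb

variable {G : Type*} [Group G] [Finite G]

/-- A subgroup `H` above `N(A)` with a central subgroup `Z` of `A`, such that `A` is a TI set modulo `Z` in `H`. -/
structure Layer (A H Z : Subgroup G) : Prop where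
  ctx : Ctx A
  fix : HFix A
  le_H : Hn A ≤ H
  ZA : Z ≤ A
  Zc : ∀ z ∈ Z, ∀ h ∈ H, Commute h z
  Zodd : ∀ z ∈ Z, z * z = 1 → z = 1
  cent : ∀ x ∈ A, x ∉ Z → ∀ c ∈ H, Commute c x → c ∈ Hn A
  inter : ∀ g ∈ H, g ∉ Hn A → ∀ a ∈ A, g⁻¹ * a * g ∈ Hn A → a ∈ Z

variable {A H Z : Subgroup G} (hL : Layer A H Z)

include hL

theorem fix_Z {z w : G} (hz : z ∈ Z) (hwH : w ∈ H) (hww : w * w = 1) : w * z * w = z := by
  rw [(hL.Zc z hz w hwH).eq, mul_assoc, hww, mul_one]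

/-- A two-point stabilizer is inverted modulo `Z`. -/
theorem inv_mod {g s y : G} (hgH : g ∈ H) (hg : g ∉ Hn A) (hss : s * s = 1) (hs : g⁻¹ * s ∈ Hn A)
    (hy : y ∈ Hn A) (hgy : g⁻¹ * y * g ∈ Hn A) : s * y * s * y ∈ Z := by
  obtain ⟨j, hj, hgj, hsj, hjy⟩ := (coset_facts hL.ctx hL.fix hg).2 s hss hs y hy
  obtain ⟨x, hx⟩ : ∃ x, x = j⁻¹ * y := ⟨_, rfl⟩
  rw [← hx] at hjy
  have hxZ : x ∈ Z := hL.inter g hgH hg x hjy (by
    rw [hx, show g⁻¹ * (j⁻¹ * y) * g = (g⁻¹ * j * g)⁻¹ * (g⁻¹ * y * g) by group]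
    exact mul_mem (inv_mem hgj) hgy)
  have hye : y = j * x := by rw [hx, mul_inv_cancel_left]
  have hsH : s ∈ H := by
    have := mul_mem hgH (hL.le_H hs)
    rwa [mul_inv_cancel_left] at this
  rw [hye, show s * (j * x) * s = (s * j * s) * (s * x * s) by
    rw [show s * j * s * (s * x * s) = s * j * (s * s) * x * s by group, hss]; group,
    hsj, fix_Z hL hxZ hsH hss, mul_assoc j⁻¹, ← mul_assoc x j,
    ← (hL.Zc x hxZ j (hL.le_H hj)).eq, mul_assoc j, inv_mul_cancel_left]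
  exact mul_mem hxZ hxZ

/-- The centralizer of `y` modulo `Z` in `H`. -/
def Ky (y : G) : Subgroup G where
  carrier := {c | c ∈ H ∧ c * y * c⁻¹ * y⁻¹ ∈ Z}
  one_mem' := ⟨one_mem H, by simp⟩
  mul_mem' := fun {a b} ha hb => ⟨mul_mem ha.1 hb.1, by
    have h := (hL.Zc _ hb.2 a ha.1).eq
    rw [show a * b * y * (a * b)⁻¹ * y⁻¹ = a * (b * y * b⁻¹ * y⁻¹) * a⁻¹ * (a * y * a⁻¹ * y⁻¹) by group, h,
      mul_inv_cancel_right]
    exact mul_mem hb.2 ha.2⟩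
  inv_mem' := fun {a} ha => ⟨inv_mem ha.1, by
    have h := (hL.Zc _ (inv_mem ha.2) a (ha.1)).eq
    rw [show a⁻¹ * y * a⁻¹⁻¹ * y⁻¹ = a⁻¹ * ((a * y * a⁻¹ * y⁻¹)⁻¹ * a) by group, ← h, inv_mul_cancel_left]
    exact inv_mem ha.2⟩

theorem mem_Ky {y c : G} : c ∈ Ky hL y ↔ c ∈ H ∧ c * y * c⁻¹ * y⁻¹ ∈ Z := Iff.rfl

variable {u : G} (huH : u ∈ H) (huu : u * u = 1) (hu : u ∉ Hn A)
variable {y : G} (hy : y ∈ Hn A) (huy : u * y * u ∈ Hn A) (hyZ : y ∉ Z)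

include huH huu hu hy huy hyZ

theorem y_not_A : y ∉ A := fun h => hyZ (hL.inter u huH hu y h (by rwa [invol_inv huu]))

theorem y_odd : Odd (orderOf y) := odd_D hL.ctx hu hy (by rwa [invol_inv huu])

theorem y_sq_not : y * y ∉ A := fun h => by
  obtain ⟨k, hk⟩ := eq_sq_pow (y_odd hL huH huu hu hy huy hyZ)
  exact y_not_A hL huH huu hu hy huy hyZ (hk ▸ pow_mem h k)

theorem uy : u * y * u * y ∈ Z := inv_mod hL huH hu huu (by simp) hy (by rwa [invol_inv huu])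

theorem u_normalizes {c : G} (hc : c ∈ Ky hL y) : u * c * u ∈ Ky hL y := by
  obtain ⟨hcH, hf⟩ := hc
  have hH := mul_mem (mul_mem huH hcH) huH
  refine ⟨hH, ?_⟩
  obtain ⟨f, hfd⟩ : ∃ f, f = c * y * c⁻¹ * y⁻¹ := ⟨_, rfl⟩
  obtain ⟨f1, hf1d⟩ : ∃ f1, f1 = u * y * u * y := ⟨_, rfl⟩
  rw [← hfd] at hf
  have hf1 : f1 ∈ Z := hf1d ▸ uy hL huH huu hu hy huy hyZ
  have huyu : u * y * u = f1 * y⁻¹ := by rw [hf1d, mul_inv_cancel_right]
  have hcy : c * y⁻¹ * c⁻¹ = y⁻¹ * f⁻¹ := by rw [hfd]; group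
  have huy' : u * y⁻¹ * u = y * f1⁻¹ := by
    rw [show u * y⁻¹ * u = (u * y * u)⁻¹ by rw [mul_inv_rev, mul_inv_rev, invol_inv huu, mul_assoc], huyu]; group
  rw [show u * c * u * y * (u * c * u)⁻¹ * y⁻¹ = u * c * (u * y * u) * c⁻¹ * u * y⁻¹ by
      rw [mul_inv_rev, mul_inv_rev, invol_inv huu]; group, huyu,
    show u * c * (f1 * y⁻¹) * c⁻¹ * u * y⁻¹ = u * (c * f1) * y⁻¹ * c⁻¹ * u * y⁻¹ by group,
    (hL.Zc f1 hf1 c hcH).eq,
    show u * (f1 * c) * y⁻¹ * c⁻¹ * u * y⁻¹ = (u * f1) * (c * y⁻¹ * c⁻¹) * u * y⁻¹ by group, hcy,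
    (hL.Zc f1 hf1 u huH).eq,
    show f1 * u * (y⁻¹ * f⁻¹) * u * y⁻¹ = f1 * (u * y⁻¹ * (f⁻¹ * u)) * y⁻¹ by group,
    ← (hL.Zc _ (inv_mem hf) u huH).eq, ← mul_assoc (u * y⁻¹) u, huy',
    show f1 * (y * f1⁻¹ * f⁻¹) * y⁻¹ = f1 * (y * (f1⁻¹ * f⁻¹)) * y⁻¹ by group,
    (hL.Zc _ (mul_mem (inv_mem hf1) (inv_mem hf)) y (hL.le_H hy)).eq]
  rw [show f1 * (f1⁻¹ * f⁻¹ * y) * y⁻¹ = f⁻¹ by group]
  exact inv_mem hf

theorem no_invol {w : G} (hw : w ∈ Ky hL y) (hww : w * w = 1) : w = 1 := by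
  by_contra hw1
  obtain ⟨hwH, hf⟩ := hw
  rw [invol_inv hww] at hf
  obtain ⟨f, hfd⟩ : ∃ f, f = w * y * w * y⁻¹ := ⟨_, rfl⟩
  rw [← hfd] at hf
  have hf1 : f = 1 := by
    refine hL.Zodd f hf ?_
    calc f * f = f * (w * y * w * y⁻¹) := by rw [← hfd]
      _ = (f * w) * y * w * y⁻¹ := by group
      _ = w * f * y * w * y⁻¹ := by rw [(hL.Zc f hf w hwH).eq]
      _ = w * (w * y * w * y⁻¹) * y * w * y⁻¹ := by rw [← hfd]
      _ = (w * w) * y * (w * w) * y⁻¹ := by group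
      _ = 1 := by rw [hww]; group
  have hcy : Commute y w := by
    rw [hfd] at hf1
    have h1 : w * y * w = y := mul_inv_eq_one.1 hf1
    show y * w = w * y
    calc y * w = w * y * (w * w) := by rw [← mul_assoc, h1]
      _ = w * y := by rw [hww, mul_one]
  obtain ⟨t, ht, htt, ht1⟩ := exists_invol hL.ctx
  obtain ⟨k, hk⟩ := cent_conj hL.ctx ht htt ht1 hww hw1
  obtain ⟨h, hh⟩ : ∃ h, h = (w * t) ^ k := ⟨_, rfl⟩
  simp only [← hh] at hk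
  have hhH : h ∈ H := hh ▸ pow_mem (mul_mem hwH (hL.le_H (A_le ht))) k
  obtain ⟨a, ha⟩ : ∃ a, a = h⁻¹ * y * h := ⟨_, rfl⟩
  have haA : a ∈ A := ha ▸ (hk y).1 hcy
  have haZ : a ∉ Z := fun e => hyZ (by
    have h1 := (hL.Zc a e h hhH).eq
    have h2 : y = a := by
      calc y = h * a * h⁻¹ := by rw [ha]; group
        _ = a := by rw [h1, mul_inv_cancel_right]
    exact h2 ▸ e)
  obtain ⟨v, hv⟩ : ∃ v, v = h⁻¹ * u * h := ⟨_, rfl⟩
  have hvv : v * v = 1 := by rw [hv, show h⁻¹ * u * h * (h⁻¹ * u * h) = h⁻¹ * (u * u) * h by group, huu]; group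
  have hvH : v ∈ H := hv ▸ mul_mem (mul_mem (inv_mem hhH) huH) hhH
  have hf1' := uy hL huH huu hu hy huy hyZ
  obtain ⟨f1, hf1d⟩ : ∃ f1, f1 = u * y * u * y := ⟨_, rfl⟩
  rw [← hf1d] at hf1'
  have hvav : v * a * v = f1 * a⁻¹ := by
    have huyu : u * y * u = f1 * y⁻¹ := by rw [hf1d, mul_inv_cancel_right]
    rw [hv, ha, show h⁻¹ * u * h * (h⁻¹ * y * h) * (h⁻¹ * u * h) = h⁻¹ * (u * y * u) * h by group, huyu,
      show h⁻¹ * (f1 * y⁻¹) * h = (h⁻¹ * f1) * y⁻¹ * h by group, (hL.Zc f1 hf1' h⁻¹ (inv_mem hhH)).eq]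
    group
  have hvA : v * a * v ∈ A := hvav ▸ mul_mem (hL.ZA hf1') (inv_mem haA)
  by_cases hvM : v ∈ Hn A
  · have hc := (comm hL.ctx (invol_H hL.ctx hvM hvv) haA).eq
    rw [hc, mul_assoc, hvv, mul_one] at hvav
    have haa : a * a ∈ Z := by
      have : a * a = f1 := by
        calc a * a = f1 * a⁻¹ * a := by rw [← hvav]
          _ = f1 := by group
      exact this ▸ hf1'
    refine y_sq_not hL huH huu hu hy huy hyZ (hL.ZA ?_)
    have h2 : y * y = h * (a * a) * h⁻¹ := by rw [ha]; group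
    rw [h2, (hL.Zc _ haa h hhH).eq, mul_inv_cancel_right]
    exact haa
  · exact haZ (hL.inter v hvH hvM a haA (by rw [invol_inv hvv]; exact A_le hvA))

theorem fixed_Z {x : G} (hx : x ∈ Ky hL y) (hux : u * x * u = x) : x ∈ Z := by
  by_contra hxZ
  obtain ⟨hxH, hf⟩ := hx
  obtain ⟨f, hfd⟩ : ∃ f, f = x * y * x⁻¹ * y⁻¹ := ⟨_, rfl⟩
  rw [← hfd] at hf
  have hf1' := uy hL huH huu hu hy huy hyZ
  obtain ⟨f1, hf1d⟩ : ∃ f1, f1 = u * y * u * y := ⟨_, rfl⟩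
  rw [← hf1d] at hf1'
  have huyu : u * y * u = f1 * y⁻¹ := by rw [hf1d, mul_inv_cancel_right]
  have hu1 : u ≠ 1 := fun e => hu (e ▸ one_mem _)
  have hxy : x * y * x⁻¹ = f * y := by rw [hfd, inv_mul_cancel_right]
  have hf2 : f = 1 := by
    refine hL.Zodd f hf ?_
    have e1 : u * (x * y * x⁻¹) * u = (u * x * u) * (u * y * u) * (u * x * u)⁻¹ := by
      rw [mul_inv_rev, mul_inv_rev, invol_inv huu,
        show u * x * u * (u * y * u) * (u * (x⁻¹ * u)) = u * x * (u * u) * y * (u * u) * x⁻¹ * u by group, huu]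
      group
    rw [hxy, hux, huyu, show u * (f * y) * u = (u * f) * y * u by group, (hL.Zc f hf u huH).eq,
      show f * u * y * u = f * (u * y * u) by group, huyu,
      show x * (f1 * y⁻¹) * x⁻¹ = (x * f1) * y⁻¹ * x⁻¹ by group, (hL.Zc f1 hf1' x hxH).eq,
      show f1 * x * y⁻¹ * x⁻¹ = f1 * (x * y * x⁻¹)⁻¹ by group, hxy, mul_inv_rev,
      ← mul_assoc f f1, ← mul_assoc f1 y⁻¹] at e1
    have e2 : f * f1 = f1 * f := ((hL.Zc f hf f1 (hL.le_H (A_le (hL.ZA hf1'))))).eq.symm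
    rw [e2, mul_assoc f1 f, mul_assoc f1 y⁻¹, mul_right_inj,
      (hL.Zc (f⁻¹) (inv_mem hf) y⁻¹ (inv_mem (hL.le_H hy))).eq, mul_left_inj] at e1
    calc f * f = f * f⁻¹ := by rw [← e1]
      _ = 1 := mul_inv_cancel f
  rw [hf2, one_mul] at hxy
  have hcxy : Commute y x := (mul_inv_eq_iff_eq_mul.1 hxy).symm
  have hcxu : Commute x u := by
    show x * u = u * x
    calc x * u = u * x * u * u := by rw [hux]
      _ = u * x := by rw [mul_assoc, huu, mul_one]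
  obtain ⟨t, ht, htt, ht1⟩ := exists_invol hL.ctx
  obtain ⟨k, hk⟩ := cent_conj hL.ctx ht htt ht1 huu hu1
  obtain ⟨h, hh⟩ : ∃ h, h = (u * t) ^ k := ⟨_, rfl⟩
  simp only [← hh] at hk
  have hhH : h ∈ H := hh ▸ pow_mem (mul_mem huH (hL.le_H (A_le ht))) k
  have haA : h⁻¹ * x * h ∈ A := (hk x).1 hcxu
  have haZ : h⁻¹ * x * h ∉ Z := fun e => hxZ (by
    have h1 := (hL.Zc _ e h hhH).eq
    rw [show h * (h⁻¹ * x * h) = x * h by group, mul_left_inj] at h1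
    exact h1.symm ▸ e)
  have hbH : h⁻¹ * y * h ∈ H := mul_mem (mul_mem (inv_mem hhH) (hL.le_H hy)) hhH
  have hbM : h⁻¹ * y * h ∈ Hn A := hL.cent _ haA haZ _ hbH (by
    show h⁻¹ * y * h * (h⁻¹ * x * h) = h⁻¹ * x * h * (h⁻¹ * y * h)
    rw [show h⁻¹ * y * h * (h⁻¹ * x * h) = h⁻¹ * (y * x) * h by group, hcxy.eq]; group)
  have hvA : h⁻¹ * u * h ∈ A := (hk u).1 (Commute.refl u)
  have h3 := mul_mem (conj_A hbM hvA) hvA
  rw [show h⁻¹ * y * h * (h⁻¹ * u * h) * (h⁻¹ * y * h)⁻¹ * (h⁻¹ * u * h) =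
    h⁻¹ * (y * (u * y⁻¹ * u)) * h by group] at h3
  have huy' : u * y⁻¹ * u = y * f1⁻¹ := by
    rw [show u * y⁻¹ * u = (u * y * u)⁻¹ by rw [mul_inv_rev, mul_inv_rev, invol_inv huu, mul_assoc], huyu]; group
  rw [huy', show h⁻¹ * (y * (y * f1⁻¹)) * h = h⁻¹ * (y * y) * (f1⁻¹ * h) by group,
    ← (hL.Zc _ (inv_mem hf1') h hhH).eq, ← mul_assoc] at h3
  have h4 : h⁻¹ * (y * y) * h ∈ A := by
    have := mul_mem h3 (hL.ZA hf1')
    rwa [inv_mul_cancel_right] at this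
  obtain ⟨j, hj⟩ := eq_sq_pow (y_odd hL huH huu hu hy huy hyZ)
  have h5 : h⁻¹ * y * h ∈ A := by
    have := pow_mem h4 j
    rwa [show h⁻¹ * (y * y) * h = h⁻¹ * (y * y) * h⁻¹⁻¹ by group, conj_pow, inv_inv, ← hj] at this
  have hyu : Commute y u := (hk y).2 h5
  refine y_sq_not hL huH huu hu hy huy hyZ (hL.ZA ?_)
  rw [hyu.symm.eq, mul_assoc, huu, mul_one] at huyu
  have : y * y = f1 := by
    calc y * y = f1 * y⁻¹ * y := by rw [← huyu]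
      _ = f1 := by group
  exact this ▸ hf1'

theorem K_inverted {x : G} (hx : x ∈ Ky hL y) : u * x * u * x ∈ Z := by
  classical
  obtain ⟨K, hK⟩ : ∃ K, K = Ky hL y := ⟨_, rfl⟩
  rw [← hK] at hx
  have hun : ∀ c ∈ K, u * c * u ∈ K := fun c hc => hK ▸ u_normalizes hL huH huu hu hy huy hyZ (hK ▸ hc)
  have hKH : ∀ c ∈ K, c ∈ H := fun c hc => ((hK ▸ hc : c ∈ Ky hL y)).1
  let J := {j : K // u * (j : G) * u = (j : G)⁻¹}
  let f : J → K ⧸ Z.subgroupOf K := fun j => (j.1 : K ⧸ Z.subgroupOf K)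
  have hf : Function.Injective f := by
    rintro ⟨⟨a, ha⟩, hau⟩ ⟨⟨b, hb⟩, hbu⟩ e
    replace e := QuotientGroup.eq.1 e
    have hz : a⁻¹ * b ∈ Z := e
    replace hau : u * a * u = a⁻¹ := hau
    replace hbu : u * b * u = b⁻¹ := hbu
    obtain ⟨z, hzd⟩ : ∃ z, z = a⁻¹ * b := ⟨_, rfl⟩
    rw [← hzd] at hz
    have hb' : b = a * z := by rw [hzd, mul_inv_cancel_left]
    rw [hb', show u * (a * z) * u = (u * a * u) * (u * z * u) by
      rw [show u * a * u * (u * z * u) = u * a * (u * u) * z * u by group, huu]; group,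
      hau, fix_Z hL hz huH huu, mul_inv_rev, ← (hL.Zc _ (inv_mem hz) a⁻¹ (inv_mem (hKH a ha))).eq,
      mul_right_inj] at hbu
    have hz1 : z = 1 := hL.Zodd z hz (by nth_rw 2 [hbu]; exact mul_inv_cancel z)
    have hab : a = b := by rw [hb', hz1, mul_one]
    exact Subtype.ext (Subtype.ext hab)
  let g : K ⧸ Z.subgroupOf K → J := fun q => ⟨⟨(q.out : G)⁻¹ * (u * q.out * u),
    mul_mem (inv_mem q.out.2) (hun _ q.out.2)⟩, by
    show u * ((q.out : G)⁻¹ * (u * q.out * u)) * u = ((q.out : G)⁻¹ * (u * q.out * u))⁻¹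
    rw [mul_inv_rev, mul_inv_rev, mul_inv_rev, invol_inv huu, inv_inv]
    calc u * ((q.out : G)⁻¹ * (u * q.out * u)) * u
        = u * (q.out : G)⁻¹ * u * q.out * (u * u) := by group
      _ = _ := by rw [huu]; group⟩
  have hg : Function.Injective g := by
    intro a b e
    have e' : (a.out : G)⁻¹ * (u * a.out * u) = (b.out : G)⁻¹ * (u * b.out * u) :=
      congrArg (fun j : J => ((j.1 : K) : G)) e
    rw [← Quotient.out_eq a, ← Quotient.out_eq b]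
    refine QuotientGroup.eq.2 ?_
    show (a.out : G)⁻¹ * b.out ∈ Z
    obtain ⟨a', ha'⟩ : ∃ a' : G, a' = a.out := ⟨_, rfl⟩
    obtain ⟨b', hb'⟩ : ∃ b' : G, b' = b.out := ⟨_, rfl⟩
    have ha'K : a' ∈ K := ha' ▸ a.out.2
    have hb'K : b' ∈ K := hb' ▸ b.out.2
    rw [← ha', ← hb'] at e' ⊢
    have hz : b' * a'⁻¹ ∈ Z := by
      refine fixed_Z hL huH huu hu hy huy hyZ (hK ▸ mul_mem hb'K (inv_mem ha'K)) ?_
      calc u * (b' * a'⁻¹) * u = (u * b' * u) * (u * a' * u)⁻¹ := by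
            rw [mul_inv_rev, mul_inv_rev, invol_inv huu,
              show u * b' * u * (u * (a'⁻¹ * u)) = u * b' * (u * u) * a'⁻¹ * u by group, huu]
            group
        _ = b' * (b'⁻¹ * (u * b' * u)) * (u * a' * u)⁻¹ := by group
        _ = b' * (a'⁻¹ * (u * a' * u)) * (u * a' * u)⁻¹ := by rw [e']
        _ = _ := by group
    have h1 := (hL.Zc _ hz a'⁻¹ (inv_mem (hKH a' ha'K))).eq
    rw [show a'⁻¹ * b' = a'⁻¹ * (b' * a'⁻¹) * a' by group, h1, inv_mul_cancel_right]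
    exact hz
  obtain ⟨⟨⟨j, hjK⟩, hju⟩, hj⟩ := ((Nat.bijective_iff_injective_and_card f).2
    ⟨hf, le_antisymm (Nat.card_le_card_of_injective f hf) (Nat.card_le_card_of_injective g hg)⟩).2
      ((⟨x, hx⟩ : K) : K ⧸ Z.subgroupOf K)
  replace hj := QuotientGroup.eq.1 hj
  have hz : j⁻¹ * x ∈ Z := hj
  replace hju : u * j * u = j⁻¹ := hju
  obtain ⟨z, hzd⟩ : ∃ z, z = j⁻¹ * x := ⟨_, rfl⟩
  rw [← hzd] at hz
  have hxe : x = j * z := by rw [hzd, mul_inv_cancel_left]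
  rw [hxe, show u * (j * z) * u = (u * j * u) * (u * z * u) by
      rw [show u * j * u * (u * z * u) = u * j * (u * u) * z * u by group, huu]; group,
    hju, fix_Z hL hz huH huu, mul_assoc j⁻¹, ← mul_assoc z j, ← (hL.Zc z hz j (hKH j hjK)).eq,
    mul_assoc j, inv_mul_cancel_left]
  exact mul_mem hz hz

theorem K_le {c : G} (hc : c ∈ Ky hL y) : c ∈ Hn A := by
  by_contra hcM
  obtain ⟨hcH, hf⟩ := id hc
  have hci := (inv_mem hc : c⁻¹ ∈ Ky hL y).2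
  rw [inv_inv] at hci
  obtain ⟨f', hf'd⟩ : ∃ f', f' = c⁻¹ * y * c * y⁻¹ := ⟨_, rfl⟩
  rw [← hf'd] at hci
  have hcy : c⁻¹ * y * c = f' * y := by rw [hf'd, inv_mul_cancel_right]
  obtain ⟨⟨s, hss, hsM⟩, -⟩ := coset_facts hL.ctx hL.fix hcM
  have hsy := inv_mod hL hcH hcM hss hsM hy (hcy ▸ mul_mem (A_le (hL.ZA hci)) hy)
  obtain ⟨f2, hf2d⟩ : ∃ f2, f2 = s * y * s * y := ⟨_, rfl⟩
  rw [← hf2d] at hsy
  have hsys : s * y * s = f2 * y⁻¹ := by rw [hf2d, mul_inv_cancel_right]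
  have hsH : s ∈ H := by
    have := mul_mem hcH (hL.le_H hsM)
    rwa [mul_inv_cancel_left] at this
  have hf1' := uy hL huH huu hu hy huy hyZ
  obtain ⟨f1, hf1d⟩ : ∃ f1, f1 = u * y * u * y := ⟨_, rfl⟩
  rw [← hf1d] at hf1'
  have huyu : u * y * u = f1 * y⁻¹ := by rw [hf1d, mul_inv_cancel_right]
  have huy' : u * y⁻¹ * u = y * f1⁻¹ := by
    rw [show u * y⁻¹ * u = (u * y * u)⁻¹ by rw [mul_inv_rev, mul_inv_rev, invol_inv huu, mul_assoc], huyu]; group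
  have he : u * s ∈ Ky hL y := by
    refine ⟨mul_mem huH hsH, ?_⟩
    rw [show u * s * y * (u * s)⁻¹ * y⁻¹ = u * (s * y * s) * u * y⁻¹ by
        rw [mul_inv_rev, invol_inv hss, invol_inv huu]; group, hsys,
      show u * (f2 * y⁻¹) * u * y⁻¹ = (u * f2) * y⁻¹ * u * y⁻¹ by group, (hL.Zc f2 hsy u huH).eq,
      show f2 * u * y⁻¹ * u * y⁻¹ = f2 * (u * y⁻¹ * u) * y⁻¹ by group, huy',
      (hL.Zc _ (inv_mem hf1') y (hL.le_H hy)).eq]
    rw [show f2 * (f1⁻¹ * y) * y⁻¹ = f2 * f1⁻¹ by group]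
    exact mul_mem hsy (inv_mem hf1')
  obtain ⟨a, ha⟩ : ∃ a, a = c⁻¹ * s := ⟨_, rfl⟩
  rw [← ha] at hsM
  have hz := K_inverted hL huH huu hu hy huy hyZ (mul_mem he (inv_mem hc))
  have haa : a * a ∈ Z := by
    obtain ⟨z, hzd⟩ : ∃ z, z = u * (u * s * c⁻¹) * u * (u * s * c⁻¹) := ⟨_, rfl⟩
    rw [← hzd] at hz
    have e : a * a = c⁻¹ * z * c := by
      rw [hzd, ha]
      calc c⁻¹ * s * (c⁻¹ * s) = c⁻¹ * ((1 : G) * (s * c⁻¹) * 1 * (s * c⁻¹)) * c := by group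
        _ = c⁻¹ * ((u * u) * (s * c⁻¹) * (u * u) * (s * c⁻¹)) * c := by rw [huu]
        _ = _ := by group
    rw [e, (hL.Zc z hz c⁻¹ (inv_mem hcH)).eq, inv_mul_cancel_right]
    exact hz
  have haA : a ∈ A := by
    obtain ⟨z, hzd⟩ : ∃ z, z = a * a := ⟨_, rfl⟩
    rw [← hzd] at haa
    have hzo : Odd (orderOf z) := by
      by_contra h
      obtain ⟨k, hk, hk1⟩ := invol_pow h
      exact hk1 (hL.Zodd _ (pow_mem haa k) hk)
    obtain ⟨o, ho⟩ := hzo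
    have h1 : a ^ orderOf z ∈ A := invol_H hL.ctx (pow_mem hsM _) (by
      rw [← (Commute.refl a).mul_pow, ← hzd, pow_orderOf_eq_one])
    rw [ho, pow_succ, pow_mul, sq, ← hzd] at h1
    have := mul_mem (inv_mem (pow_mem (hL.ZA haa) o)) h1
    rwa [inv_mul_cancel_left] at this
  have hay : a * y * a⁻¹ * y⁻¹ ∈ A := by
    have := mul_mem haA (conj_A hy (inv_mem haA))
    rwa [show a * (y * a⁻¹ * y⁻¹) = a * y * a⁻¹ * y⁻¹ by group] at this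
  refine y_sq_not hL huH huu hu hy huy hyZ ?_
  have e : a * y * a⁻¹ = f2 * (c⁻¹ * y⁻¹ * c) := by
    rw [ha, mul_inv_rev, invol_inv hss, inv_inv,
      show c⁻¹ * s * y * (s * c) = c⁻¹ * (s * y * s) * c by group, hsys,
      show c⁻¹ * (f2 * y⁻¹) * c = (c⁻¹ * f2) * y⁻¹ * c by group, (hL.Zc f2 hsy c⁻¹ (inv_mem hcH)).eq]
    group
  rw [e, show c⁻¹ * y⁻¹ * c = (c⁻¹ * y * c)⁻¹ by group, hcy, mul_inv_rev,
    (hL.Zc _ (inv_mem hci) y⁻¹ (inv_mem (hL.le_H hy))).eq, ← mul_assoc] at hay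
  have := mul_mem (inv_mem (hL.ZA (mul_mem hsy (inv_mem hci)))) hay
  rw [mul_assoc (f2 * f'⁻¹), inv_mul_cancel_left] at this
  have := inv_mem this
  rwa [mul_inv_rev, inv_inv] at this

theorem K_le_R {c : G} (hc : c ∈ Ky hL y) : c ∈ Hn A ∧ u * c * u ∈ Hn A :=
  ⟨K_le hL huH huu hu hy huy hyZ hc,
    K_le hL huH huu hu hy huy hyZ (u_normalizes hL huH huu hu hy huy hyZ hc)⟩

/-- `y` fixes only two points of `H`. -/
theorem fixed {g : G} (hgH : g ∈ H) (hgy : g⁻¹ * y * g ∈ Hn A) : g ∈ Hn A ∨ u * g ∈ Hn A := by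
  by_cases hgM : g ∈ Hn A
  · exact Or.inl hgM
  right
  obtain ⟨⟨s, hss, hs⟩, -⟩ := coset_facts hL.ctx hL.fix hgM
  have hsy := inv_mod hL hgH hgM hss hs hy hgy
  have hf1' := uy hL huH huu hu hy huy hyZ
  obtain ⟨f1, hf1d⟩ : ∃ f1, f1 = u * y * u * y := ⟨_, rfl⟩
  obtain ⟨f2, hf2d⟩ : ∃ f2, f2 = s * y * s * y := ⟨_, rfl⟩
  rw [← hf1d] at hf1'
  rw [← hf2d] at hsy
  have huyu : u * y * u = f1 * y⁻¹ := by rw [hf1d, mul_inv_cancel_right]
  have hsys : s * y * s = f2 * y⁻¹ := by rw [hf2d, mul_inv_cancel_right]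
  have huy' : u * y⁻¹ * u = y * f1⁻¹ := by
    rw [show u * y⁻¹ * u = (u * y * u)⁻¹ by rw [mul_inv_rev, mul_inv_rev, invol_inv huu, mul_assoc], huyu]; group
  have hsH : s ∈ H := by
    have := mul_mem hgH (hL.le_H hs)
    rwa [mul_inv_cancel_left] at this
  have he : u * s ∈ Ky hL y := by
    refine ⟨mul_mem huH hsH, ?_⟩
    rw [show u * s * y * (u * s)⁻¹ * y⁻¹ = u * (s * y * s) * u * y⁻¹ by
        rw [mul_inv_rev, invol_inv hss, invol_inv huu]; group, hsys,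
      show u * (f2 * y⁻¹) * u * y⁻¹ = (u * f2) * y⁻¹ * u * y⁻¹ by group, (hL.Zc f2 hsy u huH).eq,
      show f2 * u * y⁻¹ * u * y⁻¹ = f2 * (u * y⁻¹ * u) * y⁻¹ by group, huy',
      (hL.Zc _ (inv_mem hf1') y (hL.le_H hy)).eq]
    rw [show f2 * (f1⁻¹ * y) * y⁻¹ = f2 * f1⁻¹ by group]
    exact mul_mem hsy (inv_mem hf1')
  have h1 := mul_mem (K_le hL huH huu hu hy huy hyZ he) (inv_mem hs)
  rwa [mul_inv_rev, inv_inv, invol_inv hss, show u * s * (s * g) = u * (s * s) * g by group, hss, mul_one] at h1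

end Cfsg.Agent.Classical.InvAb
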