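/-
An element of odd order in an involution centralizer has its centralizer inside the normalizer.
-/
import Cfsg.Agent.Lib.Classical.InvAb.Layer

set_option autoImplicit false
set_option linter.unusedSectionVars false

namespace Cfsg.Agent.Classical.InvAb

variable {G : Type*} [Group G] [Finite G]

/-- `H` is the centralizer of every nontrivial element of `F` and is larger than `N(A)`. -/
structure CaseI (A H F : Subgroup G) : Prop where
  ctx : Ctx A
  le_H : Hn A ≤ H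
  ne_top : ∃ g : G, g ∉ H
  F_le : F ≤ A
  Fodd : ∀ z ∈ F, z * z = 1 → z = 1
  F_ne : ∃ z ∈ F, z ≠ 1
  sq : ∀ a ∈ A, a * a ∈ F
  cent : ∀ f ∈ F, f ≠ 1 → ∀ c, Commute c f ↔ c ∈ H
  gt : ∃ u ∈ H, u * u = 1 ∧ u ∉ Hn A

variable {A H F : Subgroup G} (hI : CaseI A H F)

include hI

theorem normH {g : G} (hg : ∀ h ∈ H, g * h * g⁻¹ ∈ H) : g ∈ H := by
  obtain ⟨t, ht, htt, ht1⟩ := exists_invol hI.ctx
  by_cases h1 : g * t * g⁻¹ ∈ A
  · exact hI.le_H (ti hI.ctx ht htt ht1 h1)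
  obtain ⟨k, hk⟩ := conj_outside hI.ctx ht htt ht1 (conj_invol htt) h1
  obtain ⟨h, hh⟩ : ∃ h, h = (g * t * g⁻¹ * t) ^ k := ⟨_, rfl⟩
  rw [← hh] at hk
  have htH : t ∈ H := hI.le_H (A_le ht)
  have hhH : h ∈ H := hh ▸ pow_mem (mul_mem (hg t htH) htH) k
  have ha : h⁻¹ * g ∈ A := (cent_iff hI.ctx ht htt ht1).1 (by
    show h⁻¹ * g * t = t * (h⁻¹ * g)
    calc h⁻¹ * g * t = h⁻¹ * (g * t * g⁻¹) * g := by group
      _ = h⁻¹ * (h * t * h⁻¹) * g := by rw [hk]
      _ = _ := by group)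
  simpa using mul_mem hhH (hI.le_H (A_le ha))

theorem invol_of_not_F {a : G} (ha : a ∈ A) (haF : a ∉ F) : ∃ k : ℕ, a ^ k * a ^ k = 1 ∧ a ^ k ≠ 1 := by
  refine invol_pow fun h => haF ?_
  obtain ⟨k, hk⟩ := eq_sq_pow h
  rw [hk]
  exact pow_mem (hI.sq a ha) k

theorem inA_F {g a : G} (hg : g ∉ Hn A) (ha : a ∈ A) (hga : g⁻¹ * a * g ∈ Hn A) : a ∈ F := by
  by_contra haF
  obtain ⟨k, hk, hk1⟩ := invol_of_not_F hI ha haF
  refine hk1 (no_invol_D hI.ctx hg (A_le (pow_mem ha k)) ?_ hk)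
  have := pow_mem hga k
  rwa [show g⁻¹ * a * g = g⁻¹ * a * g⁻¹⁻¹ by group, conj_pow, inv_inv] at this

theorem fix : HFix A := by
  intro s x hss hs hx hsx
  by_cases hx1 : x = 1
  · rw [hx1, mul_one, hss]
  have hxF : x ∈ F := inA_F hI hs hx (by rw [invol_inv hss]; exact A_le hsx)
  have hyF : s * x * s ∈ F := inA_F hI hs hsx (by
    rw [invol_inv hss, show s * (s * x * s) * s = (s * s) * x * (s * s) by group, hss, one_mul, mul_one]
    exact A_le hx)
  have hy1 : s * x * s ≠ 1 := fun e => hx1 (by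
    calc x = (s * s) * x * (s * s) := by rw [hss, one_mul, mul_one]
      _ = s * (s * x * s) * s := by group
      _ = 1 := by rw [e, mul_one, hss])
  have hsH : s ∈ H := normH hI fun h hh => by
    rw [invol_inv hss]
    refine (hI.cent _ hyF hy1 _).1 ?_
    show s * h * s * (s * x * s) = s * x * s * (s * h * s)
    calc s * h * s * (s * x * s) = s * (h * (s * s) * x) * s := by group
      _ = s * (x * h) * s := by rw [hss, mul_one, ((hI.cent x hxF hx1 h).2 hh).eq]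
      _ = s * (x * (s * s) * h) * s := by rw [hss, mul_one]
      _ = _ := by group
  rw [((hI.cent x hxF hx1 s).2 hsH).eq, mul_assoc, hss, mul_one]

theorem layer : Layer A H F where
  ctx := hI.ctx
  fix := fix hI
  le_H := hI.le_H
  ZA := hI.F_le
  Zc z hz h hh := by
    by_cases hz1 : z = 1
    · rw [hz1]; exact Commute.one_right h
    · exact (hI.cent z hz hz1 h).2 hh
  Zodd := hI.Fodd
  cent x hx hxF c _ hc := by
    obtain ⟨k, hk, hk1⟩ := invol_of_not_F hI hx hxF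
    exact A_le ((cent_iff hI.ctx (pow_mem hx k) hk hk1).1 (hc.pow_right k))
  inter g _ hg a ha hga := inA_F hI hg ha hga

theorem card_mod {ℓ : ℕ} [hl : Fact ℓ.Prime] {y : G} (hy : y ∈ Hn A) (hyA : y ∉ A) (hyl : y ^ ℓ = 1) :
    Nat.card (H ⧸ (Hn A).subgroupOf H) ≡ 2 [MOD ℓ] := by
  classical
  obtain ⟨u, huH, huu, hu⟩ := hI.gt
  obtain ⟨j, hj, hgj, -, hjy⟩ := (coset_facts hI.ctx (fix hI) hu).2 u huu (by simp) y hy
  rw [invol_inv huu] at hgj
  haveI hAn : (A.subgroupOf (Hn A)).Normal := Subgroup.normal_in_normalizer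
  have hjl : j ^ ℓ ∈ A := by
    have e : ((⟨j, hj⟩ : Hn A) : Hn A ⧸ A.subgroupOf (Hn A)) = (⟨y, hy⟩ : Hn A) := QuotientGroup.eq.2 hjy
    have e2 : (((⟨j, hj⟩ : Hn A) ^ ℓ : Hn A) : Hn A ⧸ A.subgroupOf (Hn A)) = 1 := by
      rw [QuotientGroup.mk_pow, e, ← QuotientGroup.mk_pow,
        show (⟨y, hy⟩ : Hn A) ^ ℓ = 1 from Subtype.ext hyl]
      rfl
    exact ((QuotientGroup.eq_one_iff (N := A.subgroupOf (Hn A)) ((⟨j, hj⟩ : Hn A) ^ ℓ)).1 e2 :)
  have hjA : j ∉ A := fun h => hyA (by simpa using mul_mem h hjy)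
  obtain ⟨e, n', hn', hord⟩ := Nat.exists_eq_pow_mul_and_not_dvd (orderOf_pos j).ne' ℓ hl.out.ne_one
  obtain ⟨r, hr⟩ : ∃ r, r = j ^ n' := ⟨_, rfl⟩
  have hrl : r ^ ℓ ^ e = 1 := by rw [hr, ← pow_mul, mul_comm, ← hord, pow_orderOf_eq_one]
  have hrM : r ∈ Hn A := hr ▸ pow_mem hj n'
  have hru : u * r * u ∈ Hn A := by
    have := pow_mem hgj n'
    rwa [show u * j * u = u * j * u⁻¹ by rw [invol_inv huu], conj_pow, invol_inv huu, ← hr] at this
  have hrA : r ∉ A := fun h => hjA (by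
    have hcop : Nat.Coprime n' ℓ := Nat.Coprime.symm ((Nat.Prime.coprime_iff_not_dvd hl.out).2 hn')
    have h1 : j ^ (Nat.gcd n' ℓ : ℤ) ∈ A := by
      rw [Nat.gcd_eq_gcd_ab, zpow_add, zpow_mul, zpow_mul, zpow_natCast, zpow_natCast, ← hr]
      exact mul_mem (zpow_mem h _) (zpow_mem hjl _)
    rw [hcop.gcd_eq_one] at h1
    simpa using h1)
  have hrF : r ∉ F := fun h => hrA (hI.F_le h)
  have hrH : r ∈ H := hI.le_H hrM
  have hrp : IsPGroup ℓ (Subgroup.zpowers (⟨r, hrH⟩ : H)) := by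
    obtain ⟨i, -, hi⟩ := (Nat.dvd_prime_pow hl.out).1 (orderOf_dvd_of_pow_eq_one hrl)
    exact IsPGroup.of_card (n := i) (by rw [Nat.card_zpowers, Subgroup.orderOf_mk]; exact hi)
  haveI : Finite (H ⧸ (Hn A).subgroupOf H) := inferInstance
  have h1 := hrp.card_modEq_card_fixedPoints (α := H ⧸ (Hn A).subgroupOf H)
  have fix_iff : ∀ g : H, (QuotientGroup.mk g : H ⧸ (Hn A).subgroupOf H) ∈
      MulAction.fixedPoints (Subgroup.zpowers (⟨r, hrH⟩ : H)) (H ⧸ (Hn A).subgroupOf H) ↔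
      (g : G)⁻¹ * r * g ∈ Hn A := by
    intro g
    rw [MulAction.mem_fixedPoints]
    constructor
    · intro h
      have := h ⟨_, Subgroup.mem_zpowers _⟩
      change (QuotientGroup.mk ((⟨r, hrH⟩ : H) * g) : H ⧸ (Hn A).subgroupOf H) = QuotientGroup.mk g at this
      rw [QuotientGroup.eq] at this
      have := inv_mem this
      simpa [Subgroup.mem_subgroupOf, mul_assoc] using this
    · rintro h ⟨x, hx⟩
      obtain ⟨i, rfl⟩ := Subgroup.mem_zpowers_iff.1 hx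
      change (QuotientGroup.mk ((⟨r, hrH⟩ : H) ^ i * g) : H ⧸ (Hn A).subgroupOf H) = QuotientGroup.mk g
      rw [QuotientGroup.eq]
      show (((⟨r, hrH⟩ : H) ^ i * g)⁻¹ * g : H).1 ∈ Hn A
      simp only [Subgroup.coe_mul, Subgroup.coe_inv, Subgroup.coe_zpow]
      have := inv_mem (zpow_mem h i)
      rw [show (g : G)⁻¹ * r * g = (g : G)⁻¹ * r * (g : G)⁻¹⁻¹ by group, conj_zpow, inv_inv] at this
      simpa [mul_assoc] using this
  have hfix : MulAction.fixedPoints (Subgroup.zpowers (⟨r, hrH⟩ : H)) (H ⧸ (Hn A).subgroupOf H) =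
      {QuotientGroup.mk (1 : H), QuotientGroup.mk (⟨u, huH⟩ : H)} := by
    ext q
    obtain ⟨g, rfl⟩ := QuotientGroup.mk_surjective q
    rw [fix_iff]
    constructor
    · intro h
      rcases fixed (layer hI) huH huu hu hrM hru hrF g.2 h with h' | h'
      · left
        rw [QuotientGroup.eq]
        show ((g⁻¹ * 1 : H) : G) ∈ Hn A
        simpa using inv_mem h'
      · right
        rw [Set.mem_singleton_iff, QuotientGroup.eq]
        show (g : G)⁻¹ * u ∈ Hn A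
        simpa [mul_inv_rev, invol_inv huu] using inv_mem h'
    · rintro (h' | h')
      · rw [QuotientGroup.eq] at h'
        have hg : (g : G) ∈ Hn A := by
          replace h' : ((g⁻¹ * 1 : H) : G) ∈ Hn A := h'
          simpa using h'
        exact mul_mem (mul_mem (inv_mem hg) hrM) hg
      · rw [Set.mem_singleton_iff, QuotientGroup.eq] at h'
        replace h' : (g : G)⁻¹ * u ∈ Hn A := h'
        have := mul_mem (mul_mem h' hru) (inv_mem h')
        rwa [mul_inv_rev, inv_inv, invol_inv huu,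
          show (g : G)⁻¹ * u * (u * r * u) * (u * g) = (g : G)⁻¹ * (u * u) * r * (u * u) * g by group, huu,
          mul_one, mul_one] at this
  have hne : (QuotientGroup.mk (1 : H) : H ⧸ (Hn A).subgroupOf H) ≠ QuotientGroup.mk (⟨u, huH⟩ : H) := by
    intro h
    rw [QuotientGroup.eq] at h
    replace h : (1 : G)⁻¹ * u ∈ Hn A := h
    exact hu (by simpa using h)
  rwa [hfix, Nat.card_coe_set_eq, Set.ncard_pair hne] at h1

theorem exists_fixed {ℓ : ℕ} [hl : Fact ℓ.Prime] {y z : G} (hy : y ∈ Hn A) (hyA : y ∉ A) (hyl : y ^ ℓ = 1)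
    (hz : z ∈ H) (hzl : z ^ ℓ = 1) (hl2 : ℓ ≠ 2) :
    (∃ g ∈ H, g⁻¹ * z * g ∈ Hn A) ∧ (z ∈ Hn A → ∃ g ∈ H, g ∉ Hn A ∧ g⁻¹ * z * g ∈ Hn A) := by
  classical
  have h2 := card_mod hI hy hyA hyl
  have hzp : IsPGroup ℓ (Subgroup.zpowers (⟨z, hz⟩ : H)) := by
    have hd : orderOf z ∣ ℓ ^ 1 := by rw [pow_one]; exact orderOf_dvd_of_pow_eq_one hzl
    obtain ⟨i, -, hi⟩ := (Nat.dvd_prime_pow hl.out).1 hd
    exact IsPGroup.of_card (n := i) (by rw [Nat.card_zpowers, Subgroup.orderOf_mk]; exact hi)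
  have h1 := (hzp.card_modEq_card_fixedPoints (α := H ⧸ (Hn A).subgroupOf H)).symm.trans h2
  have hto : ∀ g : H, (QuotientGroup.mk g : H ⧸ (Hn A).subgroupOf H) ∈
      MulAction.fixedPoints (Subgroup.zpowers (⟨z, hz⟩ : H)) (H ⧸ (Hn A).subgroupOf H) →
      (g : G)⁻¹ * z * g ∈ Hn A := by
    intro g hg
    have := MulAction.mem_fixedPoints.1 hg ⟨_, Subgroup.mem_zpowers _⟩
    change (QuotientGroup.mk ((⟨z, hz⟩ : H) * g) : H ⧸ (Hn A).subgroupOf H) = QuotientGroup.mk g at this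
    rw [QuotientGroup.eq] at this
    have := inv_mem this
    simpa [Subgroup.mem_subgroupOf, mul_assoc] using this
  have hl3 : 3 ≤ ℓ := by have := hl.out.two_le; omega
  have hmod : (Nat.card (MulAction.fixedPoints (Subgroup.zpowers (⟨z, hz⟩ : H)) (H ⧸ (Hn A).subgroupOf H))) % ℓ = 2 := by
    rw [h1, Nat.mod_eq_of_lt (by omega)]
  constructor
  · haveI : Nonempty (MulAction.fixedPoints (Subgroup.zpowers (⟨z, hz⟩ : H)) (H ⧸ (Hn A).subgroupOf H)) := by
      by_contra hno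
      rw [not_nonempty_iff] at hno
      rw [Nat.card_of_isEmpty, Nat.zero_mod] at hmod
      omega
    obtain ⟨⟨q, hq⟩⟩ := ‹Nonempty (MulAction.fixedPoints (Subgroup.zpowers (⟨z, hz⟩ : H)) (H ⧸ (Hn A).subgroupOf H))›
    obtain ⟨g, rfl⟩ := QuotientGroup.mk_surjective q
    exact ⟨g, g.2, hto g hq⟩
  · intro _
    by_contra hno
    push Not at hno
    have hsub : Subsingleton (MulAction.fixedPoints (Subgroup.zpowers (⟨z, hz⟩ : H)) (H ⧸ (Hn A).subgroupOf H)) := by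
      refine ⟨fun a b => Subtype.ext ?_⟩
      have key : ∀ c : MulAction.fixedPoints (Subgroup.zpowers (⟨z, hz⟩ : H)) (H ⧸ (Hn A).subgroupOf H),
          c.1 = QuotientGroup.mk (1 : H) := by
        rintro ⟨q, hq⟩
        obtain ⟨g, rfl⟩ := QuotientGroup.mk_surjective q
        refine QuotientGroup.eq.2 ?_
        show ((g⁻¹ * 1 : H) : G) ∈ Hn A
        have hgM : (g : G) ∈ Hn A := by
          by_contra hgM
          exact hno g g.2 hgM (hto g hq)
        simpa using inv_mem hgM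
      rw [key a, key b]
    have := Finite.card_le_one_iff_subsingleton.2 hsub
    rcases Nat.le_one_iff_eq_zero_or_eq_one.1 this with e | e <;> rw [e, Nat.mod_eq_of_lt (by omega)] at hmod <;>
      omega

theorem no_X {s x : G} {ℓ : ℕ} [hl : Fact ℓ.Prime] (hss : s * s = 1) (hsH : s ∉ H) (hx : x ∈ F) (hx1 : x ≠ 1)
    (hxl : x ^ ℓ = 1) (hsx : s * x * s ∈ Hn A) : False := by
  have hL := layer hI
  have hC := hI.ctx
  have hs : s ∉ Hn A := fun h => hsH (hI.le_H h)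
  obtain ⟨y, hyd⟩ : ∃ y, y = s * x * s := ⟨_, rfl⟩
  rw [← hyd] at hsx
  have hyA : y ∉ A := fun h => hsH ((hI.cent x hx hx1 s).1 (by
    have e := fix hI s x hss hs (hI.F_le hx) (hyd ▸ h)
    show s * x = x * s
    calc s * x = s * x * s * s := by rw [mul_assoc (s * x), hss, mul_one]
      _ = x * s := by rw [e]))
  have hyF : y ∉ F := fun h => hyA (hI.F_le h)
  have hyl : y ^ ℓ = 1 := by
    rw [hyd, show s * x * s = s * x * s⁻¹ by rw [invol_inv hss], conj_pow, hxl]; group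
  have hl2 : ℓ ≠ 2 := by
    rintro rfl
    exact hx1 (hI.Fodd x hx (by rwa [sq] at hxl))
  obtain ⟨g, hgH, hgM, hgy⟩ := (exists_fixed hI hsx hyA hyl (hI.le_H hsx) hyl hl2).2 hsx
  obtain ⟨⟨u, huu, hug⟩, -⟩ := coset_facts hC (fix hI) hgM
  have huH : u ∈ H := by
    have := mul_mem hgH (hI.le_H hug)
    rwa [mul_inv_cancel_left] at this
  have hu : u ∉ Hn A := fun h => hgM (by
    have := mul_mem h (inv_mem hug)
    rwa [mul_inv_rev, inv_inv, ← mul_assoc, mul_inv_cancel, one_mul] at this)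
  have huy : u * y * u ∈ Hn A := by
    have := mul_mem (mul_mem (inv_mem hug) hgy) hug
    rwa [mul_inv_rev, inv_inv, invol_inv huu,
      show u * g * (g⁻¹ * y * g) * (g⁻¹ * u) = u * y * u by group] at this
  have hP : ∀ h : G, h ∈ H → s * h * s ∈ H → h ∈ Hn A ∧ u * h * u ∈ Hn A := by
    intro h hh hsh
    have hc : Commute h y := by
      rw [hyd]
      show h * (s * x * s) = s * x * s * h
      calc h * (s * x * s) = (s * s) * h * (s * x * s) := by rw [hss, one_mul]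
        _ = s * ((s * h * s) * x) * s := by group
        _ = s * (x * (s * h * s)) * s := by rw [((hI.cent x hx hx1 _).2 hsh).eq]
        _ = s * x * s * h * (s * s) := by group
        _ = _ := by rw [hss, mul_one]
    refine K_le_R hL huH huu hu hsx huy hyF (c := h) ((mem_Ky hL).2 ⟨hh, ?_⟩)
    rw [hc.eq, mul_inv_cancel_right, mul_inv_cancel]
    exact one_mem F
  have hP' : ∀ h : G, h ∈ H → s * h * s ∈ H → s * h * s ∈ Hn A ∧ u * (s * h * s) * u ∈ Hn A := fun h hh hsh =>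
    hP _ hsh (by rwa [show s * (s * h * s) * s = (s * s) * h * (s * s) by group, hss, one_mul, mul_one])
  have hFs : ∀ f ∈ F, s * f * s ∈ Hn A := by
    intro f hf
    refine (hP' f (hI.le_H (A_le (hI.F_le hf))) ((hI.cent x hx hx1 _).1 ?_)).1
    have e : Commute y f := hL.Zc f hf y (hI.le_H hsx)
    show s * f * s * x = x * (s * f * s)
    calc s * f * s * x = s * f * (s * x * s) * s := by
          rw [show s * f * (s * x * s) * s = s * f * s * x * (s * s) by group, hss, mul_one]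
      _ = s * (f * y) * s := by rw [hyd]; group
      _ = s * (y * f) * s := by rw [e.eq]
      _ = (s * s) * x * s * f * s := by rw [hyd]; group
      _ = _ := by rw [hss]; group
  have hRD : ∀ r : G, r ∈ Hn A → u * r * u ∈ Hn A → s * r * s ∈ Hn A := by
    intro r hr hur
    obtain ⟨j, hj, hsj, -, hjr⟩ := (coset_facts hC (fix hI) hs).2 s hss (by simp) r hr
    rw [invol_inv hss] at hsj
    have huj := (hP j (hI.le_H hj) (hI.le_H hsj)).2
    have hF : j⁻¹ * r ∈ F := inA_F hI hu hjr (by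
      rw [invol_inv huu]
      have := mul_mem (inv_mem huj) hur
      rwa [mul_inv_rev, mul_inv_rev, invol_inv huu,
        show u * (j⁻¹ * u) * (u * r * u) = u * j⁻¹ * (u * u) * r * u by group, huu, mul_one,
        show u * j⁻¹ * r * u = u * (j⁻¹ * r) * u by group] at this)
    have := mul_mem hsj (hFs _ hF)
    rwa [show s * j * s * (s * (j⁻¹ * r) * s) = s * j * (s * s) * j⁻¹ * r * s by group, hss, mul_one,
      mul_inv_cancel_right] at this
  have huu' : ∀ r : G, u * (u * r * u) * u = r := fun r => by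
    rw [show u * (u * r * u) * u = (u * u) * r * (u * u) by group, huu, one_mul, mul_one]
  have hus : u * s ∉ Hn A := fun h => hsH (by
    have := mul_mem huH (hI.le_H h)
    rwa [← mul_assoc, huu, one_mul] at this)
  obtain ⟨⟨s1, hs1, hs1M⟩, -⟩ := coset_facts hC (fix hI) hus
  obtain ⟨m1, hm1⟩ : ∃ m1, m1 = (u * s)⁻¹ * s1 := ⟨_, rfl⟩
  rw [← hm1] at hs1M
  have hvd : m1 = s * u * s1 := by rw [hm1, mul_inv_rev, invol_inv hss, invol_inv huu]
  have hD2 : ∀ δ : G, δ ∈ Hn A → s * (u * δ * u) * s ∈ Hn A → u * δ * u ∈ Hn A := by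
    intro δ hδ hsδ
    obtain ⟨j, hj, huj, -, hjδ⟩ := (coset_facts hC (fix hI) hu).2 u huu (by simp) δ hδ
    rw [invol_inv huu] at huj
    have h2 := hRD _ huj (by rw [huu']; exact hj)
    have hF : j⁻¹ * δ ∈ F := inA_F hI hus hjδ (by
      rw [mul_inv_rev, invol_inv hss, invol_inv huu]
      have := mul_mem (inv_mem h2) hsδ
      rwa [mul_inv_rev, mul_inv_rev, mul_inv_rev, mul_inv_rev, invol_inv hss, invol_inv huu,
        show s * (u * (j⁻¹ * u) * s) * (s * (u * δ * u) * s) = s * u * j⁻¹ * (u * (s * s) * u) * δ * u * s by group,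
        hss, mul_one, huu, mul_one,
        show s * u * j⁻¹ * δ * u * s = s * u * (j⁻¹ * δ) * (u * s) by group] at this)
    have hfz := fix_Z hL hF huH huu
    have := mul_mem huj (A_le (hI.F_le hF))
    rw [← hfz, show u * j * u * (u * (j⁻¹ * δ) * u) = u * j * (u * u) * j⁻¹ * δ * u by group, huu, mul_one,
      mul_inv_cancel_right] at this
    exact this
  have hs1conj : ∀ δ : G, s1 * δ * s1 = m1⁻¹ * (s * (u * δ * u) * s) * m1 := by
    intro δ
    rw [hvd, mul_inv_rev, mul_inv_rev, invol_inv hss, invol_inv huu, invol_inv hs1,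
      show s1 * (u * s) * (s * (u * δ * u) * s) * (s * u * s1) =
        s1 * u * (s * s) * u * δ * u * (s * s) * u * s1 by group, hss, mul_one, mul_one,
      show s1 * u * u * δ * u * u * s1 = s1 * (u * u) * δ * (u * u) * s1 by group, huu, mul_one, mul_one]
  have hN1 : ∀ r : G, r ∈ Hn A → u * r * u ∈ Hn A → s1 * r * s1 ∈ Hn A ∧ u * (s1 * r * s1) * u ∈ Hn A := by
    intro r hr hur
    have h1 : s1 * r * s1 ∈ Hn A := by
      rw [hs1conj]
      exact mul_mem (mul_mem (inv_mem hs1M) (hRD _ hur (by rwa [huu']))) hs1M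
    refine ⟨h1, hD2 _ h1 ?_⟩
    have := mul_mem (mul_mem hs1M hr) (inv_mem hs1M)
    rwa [show m1 * r * m1⁻¹ = s * (u * (s1 * r * s1) * u) * s by
      rw [hvd, mul_inv_rev, mul_inv_rev, invol_inv hss, invol_inv huu, invol_inv hs1]; group] at this
  have hNs : ∀ r : G, r ∈ Hn A → u * r * u ∈ Hn A → s * r * s ∈ Hn A ∧ u * (s * r * s) * u ∈ Hn A := by
    intro r hr hur
    exact hP' r (hI.le_H hr) (hI.le_H (hRD r hr hur))
  have hNu : ∀ r : G, r ∈ Hn A → u * r * u ∈ Hn A → u * r * u ∈ Hn A ∧ u * (u * r * u) * u ∈ Hn A :=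
    fun r hr hur => ⟨hur, by rwa [huu']⟩
  have hvy : m1 * y * m1⁻¹ ∈ Hn A ∧ u * (m1 * y * m1⁻¹) * u ∈ Hn A := by
    obtain ⟨a1, a2⟩ := hN1 y hsx huy
    obtain ⟨b1, b2⟩ := hNu _ a1 a2
    have := hNs _ b1 b2
    rwa [show m1 * y * m1⁻¹ = s * (u * (s1 * y * s1) * u) * s by
      rw [hvd, mul_inv_rev, mul_inv_rev, invol_inv hss, invol_inv huu, invol_inv hs1]; group]
  have hv : u * m1 * u ∈ Hn A := by
    obtain ⟨j, hj, huj, -, hja⟩ := (coset_facts hC (fix hI) hu).2 u huu (by simp) m1 hs1M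
    rw [invol_inv huu] at huj
    obtain ⟨a, ha⟩ : ∃ a, a = j⁻¹ * m1 := ⟨_, rfl⟩
    rw [← ha] at hja
    have haR : a * y * a⁻¹ ∈ Hn A ∧ u * (a * y * a⁻¹) * u ∈ Hn A := by
      refine ⟨mul_mem (mul_mem (A_le hja) hsx) (inv_mem (A_le hja)), ?_⟩
      have := mul_mem (mul_mem (inv_mem huj) hvy.2) huj
      rwa [mul_inv_rev, mul_inv_rev, invol_inv huu,
        show u * (j⁻¹ * u) * (u * (m1 * y * m1⁻¹) * u) * (u * j * u) =
          u * j⁻¹ * (u * u) * m1 * y * m1⁻¹ * (u * u) * j * u by group, huu, mul_one, mul_one,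
        show u * j⁻¹ * m1 * y * m1⁻¹ * j * u = u * ((j⁻¹ * m1) * y * (j⁻¹ * m1)⁻¹) * u by group, ← ha] at this
    have hcA : a * y * a⁻¹ * y⁻¹ ∈ A := by
      have := mul_mem hja (conj_A hsx (inv_mem hja))
      rwa [show a * (y * a⁻¹ * y⁻¹) = a * y * a⁻¹ * y⁻¹ by group] at this
    have hcF : a * y * a⁻¹ * y⁻¹ ∈ F := inA_F hI hu hcA (by
      rw [invol_inv huu]
      have := mul_mem haR.2 (inv_mem huy)
      rwa [mul_inv_rev, mul_inv_rev, invol_inv huu,
        show u * (a * y * a⁻¹) * u * (u * (y⁻¹ * u)) = u * (a * y * a⁻¹) * (u * u) * y⁻¹ * u by group, huu, mul_one,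
        mul_assoc u (a * y * a⁻¹) y⁻¹] at this)
    have haK := K_le_R hL huH huu hu hsx huy hyF ((mem_Ky hL).2 ⟨hI.le_H (A_le hja), hcF⟩)
    have := mul_mem huj haK.2
    rwa [show u * j * u * (u * a * u) = u * j * (u * u) * a * u by group, huu, mul_one, ha, mul_assoc u j,
      mul_inv_cancel_left] at this
  obtain ⟨P, hPd⟩ : ∃ P, P = (u * s) * (u * s) := ⟨_, rfl⟩
  have hPM : P ∈ Hn A ∧ u * P * u ∈ Hn A := by
    obtain ⟨a1, a2⟩ := hNu m1 hs1M hv
    obtain ⟨b1, b2⟩ := hNs _ a1 a2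
    have e : P = (s * (u * m1 * u) * s * m1)⁻¹ := by
      refine eq_inv_of_mul_eq_one_left ?_
      have h1 : s1 = u * s * m1 := by rw [hm1, mul_inv_cancel_left]
      rw [hPd]
      calc u * s * (u * s) * (s * (u * m1 * u) * s * m1)
          = u * s * u * (s * s) * u * m1 * u * s * m1 := by group
        _ = u * s * (u * u) * m1 * u * s * m1 := by rw [hss, mul_one]; group
        _ = s1 * s1 := by rw [huu, mul_one, h1]; group
        _ = 1 := hs1
    refine ⟨e ▸ inv_mem (mul_mem b1 hs1M), ?_⟩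
    have := inv_mem (mul_mem b2 hv)
    rwa [show u * (s * (u * m1 * u) * s) * u * (u * m1 * u) = u * (s * (u * m1 * u) * s) * (u * u) * m1 * u by group,
      huu, mul_one, mul_assoc u _ m1, mul_inv_rev, mul_inv_rev, invol_inv huu, ← mul_assoc,
      ← e] at this
  obtain ⟨o, ho⟩ : Odd (orderOf P) := odd_D hC hu hPM.1 (by rw [invol_inv huu]; exact hPM.2)
  obtain ⟨w, hw⟩ : ∃ w, w = (u * s) ^ orderOf P := ⟨_, rfl⟩
  have hww : w * w = 1 := by rw [hw, ← (Commute.refl (u * s)).mul_pow, ← hPd, pow_orderOf_eq_one]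
  have hwe : w = P ^ o * (u * s) := by rw [hw, ho, pow_succ, pow_mul, sq, ← hPd]
  have hPoH : P ^ o ∈ H := hI.le_H (pow_mem hPM.1 o)
  have hwH : w ∈ H := by
    have huw : Commute w u := by
      have e : u * w * u = w := by
        rw [hw, show u * (u * s) ^ orderOf P * u = u * (u * s) ^ orderOf P * u⁻¹ by rw [invol_inv huu],
          ← conj_pow, invol_inv huu, ← mul_assoc, huu, one_mul,
          show s * u = (u * s)⁻¹ by rw [mul_inv_rev, invol_inv hss, invol_inv huu], inv_pow, ← hw, invol_inv hww]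
      show w * u = u * w
      calc w * u = u * w * u * u := by rw [e]
        _ = u * w := by rw [mul_assoc, huu, mul_one]
    obtain ⟨t, ht, htt, ht1⟩ := exists_invol hC
    obtain ⟨k, hk⟩ := cent_conj hC ht htt ht1 huu (fun e => hu (e ▸ one_mem _))
    have hhH : (u * t) ^ k ∈ H := pow_mem (mul_mem huH (hI.le_H (A_le ht))) k
    have := mul_mem (mul_mem hhH (hI.le_H (A_le ((hk w).1 huw)))) (inv_mem hhH)
    rwa [show (u * t) ^ k * (((u * t) ^ k)⁻¹ * w * (u * t) ^ k) * ((u * t) ^ k)⁻¹ = w by group] at this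
  refine hsH ?_
  have := mul_mem huH (mul_mem (inv_mem hPoH) hwH)
  rwa [hwe, inv_mul_cancel_left, ← mul_assoc, huu, one_mul] at this

theorem trivial_inter {g a : G} (hg : g ∉ H) (ha : a ∈ A) (hga : g⁻¹ * a * g ∈ Hn A) : a = 1 := by
  by_contra ha1
  have hgM : g ∉ Hn A := fun h => hg (hI.le_H h)
  have haF := inA_F hI hgM ha hga
  obtain ⟨ℓ, hl, hd⟩ := Nat.exists_prime_and_dvd (fun e => ha1 (orderOf_eq_one_iff.1 e))
  haveI := Fact.mk hl
  obtain ⟨n, hn⟩ := hd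
  have hpos := orderOf_pos a
  have hn0 : n ≠ 0 := fun e => by rw [e, mul_zero] at hn; omega
  have hx1 : a ^ n ≠ 1 := pow_ne_one_of_lt_orderOf hn0 (by
    rw [hn]; exact lt_mul_of_one_lt_left (Nat.pos_of_ne_zero hn0) hl.one_lt)
  have hxl : (a ^ n) ^ ℓ = 1 := by rw [← pow_mul, mul_comm, ← hn, pow_orderOf_eq_one]
  obtain ⟨⟨s, hss, hs⟩, -⟩ := coset_facts hI.ctx (fix hI) hgM
  have hsH : s ∉ H := fun h => hg (by
    have := mul_mem h (inv_mem (hI.le_H hs))
    rwa [mul_inv_rev, inv_inv, ← mul_assoc, mul_inv_cancel, one_mul] at this)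
  refine no_X hI hss hsH (pow_mem haF n) hx1 hxl ?_
  have := pow_mem hga n
  rw [show g⁻¹ * a * g = g⁻¹ * a * g⁻¹⁻¹ by group, conj_pow, inv_inv] at this
  have := mul_mem (mul_mem (inv_mem hs) this) hs
  rwa [mul_inv_rev, inv_inv, invol_inv hss,
    show s * g * (g⁻¹ * a ^ n * g) * (g⁻¹ * s) = s * a ^ n * s by group] at this

theorem inv_exact {g s δ : G} (hg : g ∉ H) (hss : s * s = 1) (hs : g⁻¹ * s ∈ Hn A) (hδ : δ ∈ Hn A)
    (hgδ : g⁻¹ * δ * g ∈ Hn A) : s * δ * s = δ⁻¹ := by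
  obtain ⟨j, -, hgj, hsj, hjδ⟩ :=
    (coset_facts hI.ctx (fix hI) fun h => hg (hI.le_H h)).2 s hss hs δ hδ
  have h1 : j⁻¹ * δ = 1 := trivial_inter hI hg hjδ (by
    rw [show g⁻¹ * (j⁻¹ * δ) * g = (g⁻¹ * j * g)⁻¹ * (g⁻¹ * δ * g) by group]
    exact mul_mem (inv_mem hgj) hgδ)
  rw [← inv_mul_eq_one.1 h1]
  exact hsj

theorem comm_mod {v d : G} (hv : v ∈ Hn A) (hd : d ∈ Hn A) : v * d * v⁻¹ * d⁻¹ ∈ A := by
  obtain ⟨g, hg⟩ := hI.ne_top
  obtain ⟨⟨s, hss, hs⟩, hcs⟩ := coset_facts hI.ctx (fix hI) (fun h => hg (hI.le_H h))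
  obtain ⟨a, haM, hga, hsa, hav⟩ := hcs s hss hs v hv
  obtain ⟨b, hbM, hgb, hsb, hbd⟩ := hcs s hss hs d hd
  have hab : a * b = b * a := by
    have e := inv_exact hI hg hss hs (mul_mem haM hbM) (by
      rw [show g⁻¹ * (a * b) * g = (g⁻¹ * a * g) * (g⁻¹ * b * g) by group]; exact mul_mem hga hgb)
    rw [show s * (a * b) * s = (s * a * s) * (s * b * s) by
      rw [show s * a * s * (s * b * s) = s * a * (s * s) * b * s by group, hss]; group, hsa, hsb,
      ← mul_inv_rev, inv_inj] at e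
    exact e.symm
  obtain ⟨a', ha'⟩ : ∃ a', a' = a⁻¹ * v := ⟨_, rfl⟩
  obtain ⟨b', hb'⟩ : ∃ b', b' = b⁻¹ * d := ⟨_, rfl⟩
  rw [← ha'] at hav
  rw [← hb'] at hbd
  have e : v * d * v⁻¹ * d⁻¹ =
      (a * a' * a⁻¹) * ((b * a) * (b' * a'⁻¹) * (b * a)⁻¹) * (b * b'⁻¹ * b⁻¹) := by
    rw [show v = a * a' by rw [ha', mul_inv_cancel_left], show d = b * b' by rw [hb', mul_inv_cancel_left]]
    calc a * a' * (b * b') * (a * a')⁻¹ * (b * b')⁻¹
        = (a * a' * a⁻¹) * (a * b) * (b' * a'⁻¹) * a⁻¹ * b'⁻¹ * b⁻¹ := by group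
      _ = _ := by rw [hab]; group
  rw [e]
  exact mul_mem (mul_mem (conj_A haM hav) (conj_A (mul_mem hbM haM) (mul_mem hbd (inv_mem hav))))
    (conj_A hbM (inv_mem hbd))

theorem false_of_caseI : False := by
  classical
  have hC := hI.ctx
  have hfx := fix hI
  obtain ⟨g, hgH⟩ := hI.ne_top
  have hgM : g ∉ Hn A := fun h => hgH (hI.le_H h)
  obtain ⟨⟨s, hss, hsg⟩, hcs⟩ := coset_facts hC hfx hgM
  have hsH : s ∉ H := fun h => hgH (by
    have := mul_mem h (inv_mem (hI.le_H hsg))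
    rwa [mul_inv_rev, inv_inv, ← mul_assoc, mul_inv_cancel, one_mul] at this)
  have hsM : s ∉ Hn A := fun h => hsH (hI.le_H h)
  obtain ⟨h0, hh0, hh0A⟩ : ∃ h ∈ Hn A, h ∉ A := by
    by_contra hno
    push Not at hno
    have h1 := Nat.card_le_card_of_injective (fun x : Hn A => (⟨x.1, hno x.1 x.2⟩ : A))
      fun a b e => Subtype.ext (congrArg (fun z : A => (z : G)) e)
    rw [card_H hC] at h1
    have := Nat.le_of_mul_le_mul_left (h1.trans_eq (mul_one _).symm) Nat.card_pos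
    have := two_le_inv hC
    omega
  obtain ⟨δ, hδM, hgδ, -, hδh⟩ := hcs s hss hsg h0 hh0
  have hδ1 : δ ≠ 1 := fun e => hh0A (by rwa [e, inv_one, one_mul] at hδh)
  obtain ⟨ℓ, hl, hd⟩ := Nat.exists_prime_and_dvd (fun e => hδ1 (orderOf_eq_one_iff.1 e))
  haveI := Fact.mk hl
  obtain ⟨n, hn⟩ := hd
  have hpos := orderOf_pos δ
  have hn0 : n ≠ 0 := fun e => by rw [e, mul_zero] at hn; omega
  obtain ⟨d, hdd⟩ : ∃ d, d = δ ^ n := ⟨_, rfl⟩
  have hd1 : d ≠ 1 := hdd ▸ pow_ne_one_of_lt_orderOf hn0 (by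
    rw [hn]; exact lt_mul_of_one_lt_left (Nat.pos_of_ne_zero hn0) hl.one_lt)
  have hdl : d ^ ℓ = 1 := by rw [hdd, ← pow_mul, mul_comm, ← hn, pow_orderOf_eq_one]
  have hdM : d ∈ Hn A := hdd ▸ pow_mem hδM n
  have hgd : g⁻¹ * d * g ∈ Hn A := by
    have := pow_mem hgδ n
    rwa [show g⁻¹ * δ * g = g⁻¹ * δ * g⁻¹⁻¹ by group, conj_pow, inv_inv, ← hdd] at this
  have hdA : d ∉ A := fun h => hd1 (trivial_inter hI hgH h hgd)
  have hsd : s * d * s = d⁻¹ := inv_exact hI hgH hss hsg hdM hgd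
  have hl2 : ℓ ≠ 2 := by
    rintro rfl
    exact hdA (invol_H hC hdM (by rwa [sq] at hdl))
  have hdsq : d * d ≠ 1 := fun e => hdA (invol_H hC hdM e)
  obtain ⟨t, ht, htt, ht1⟩ := exists_invol hC
  -- no involution centralizes `d`
  have hnoinv : ∀ w : G, w * w = 1 → Commute d w → w = 1 := by
    intro w hww hcw
    by_contra hw1
    obtain ⟨k, hk⟩ := cent_conj hC ht htt ht1 hww hw1
    obtain ⟨h, hh⟩ : ∃ h, h = (w * t) ^ k := ⟨_, rfl⟩
    simp only [← hh] at hk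
    have hd' := (hk d).1 hcw
    obtain ⟨v, hv⟩ : ∃ v, v = h⁻¹ * s * h := ⟨_, rfl⟩
    have hvv : v * v = 1 := by
      rw [hv, show h⁻¹ * s * h * (h⁻¹ * s * h) = h⁻¹ * (s * s) * h by group, hss]; group
    have hvd : v * (h⁻¹ * d * h) * v = (h⁻¹ * d * h)⁻¹ := by
      rw [hv, show h⁻¹ * s * h * (h⁻¹ * d * h) * (h⁻¹ * s * h) = h⁻¹ * (s * d * s) * h by group, hsd]; group
    have heq : v * (h⁻¹ * d * h) * v = h⁻¹ * d * h := by
      by_cases hvM : v ∈ Hn A
      · rw [(comm hC (invol_H hC hvM hvv) hd').eq, mul_assoc, hvv, mul_one]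
      · exact hfx v _ hvv hvM hd' (hvd ▸ inv_mem hd')
    rw [hvd] at heq
    refine hdsq ?_
    calc d * d = h * ((h⁻¹ * d * h) * (h⁻¹ * d * h)) * h⁻¹ := by group
      _ = h * ((h⁻¹ * d * h)⁻¹ * (h⁻¹ * d * h)) * h⁻¹ := by rw [heq]
      _ = 1 := by group
  have hs1 : s ≠ 1 := fun e => hsH (e ▸ one_mem H)
  -- a fixed point of `s` on the centralizer of `d`
  obtain ⟨z, hz1, hzd, hzs⟩ : ∃ z : G, z ≠ 1 ∧ Commute z d ∧ Commute z s := by
    by_contra hno
    push Not at hno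
    obtain ⟨C, hCd⟩ : ∃ C, C = Subgroup.centralizer ({d} : Set G) := ⟨_, rfl⟩
    have hm : ∀ x, x ∈ C ↔ x * d = d * x := fun x => by rw [hCd, Subgroup.mem_centralizer_singleton_iff]
    have hsn : ∀ x ∈ C, s * x * s ∈ C := by
      intro x hx
      have hxi : x * d⁻¹ = d⁻¹ * x := ((show Commute x d from (hm x).1 hx).inv_right).eq
      have e : Commute (s * x * s) d⁻¹ := by
        rw [← hsd]
        show s * x * s * (s * d * s) = s * d * s * (s * x * s)
        calc s * x * s * (s * d * s) = s * (x * (s * s) * d) * s := by group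
          _ = s * (d * (s * s) * x) * s := by rw [hss, mul_one, mul_one, (hm x).1 hx]
          _ = _ := by group
      exact (hm _).2 (by simpa using e.inv_right.eq)
    have hinj : Function.Injective
        (fun k : C => (⟨(k : G)⁻¹ * (s * k * s), mul_mem (inv_mem k.2) (hsn k k.2)⟩ : C)) := by
      intro a b e
      have e1 : (a : G)⁻¹ * (s * a * s) = (b : G)⁻¹ * (s * b * s) := congrArg Subtype.val e
      by_contra hab
      refine hno ((a : G) * (b : G)⁻¹) (fun e' => hab (Subtype.ext (mul_inv_eq_one.1 e')))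
        ((hm _).1 (mul_mem a.2 (inv_mem b.2))) ?_
      have e2 : s * ((a : G) * (b : G)⁻¹) * s = (a : G) * (b : G)⁻¹ := by
        calc s * ((a : G) * (b : G)⁻¹) * s = (s * a * s) * (s * b * s)⁻¹ := by
              rw [mul_inv_rev, mul_inv_rev, invol_inv hss,
                show s * (a : G) * s * (s * ((b : G)⁻¹ * s)) = s * (a : G) * (s * s) * (b : G)⁻¹ * s by group, hss]
              group
          _ = (a : G) * ((a : G)⁻¹ * (s * a * s)) * (s * b * s)⁻¹ := by group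
          _ = (a : G) * ((b : G)⁻¹ * (s * b * s)) * (s * b * s)⁻¹ := by rw [e1]
          _ = _ := by group
      show (a : G) * (b : G)⁻¹ * s = s * ((a : G) * (b : G)⁻¹)
      calc (a : G) * (b : G)⁻¹ * s = s * ((a : G) * (b : G)⁻¹) * s * s := by rw [e2]
        _ = _ := by rw [mul_assoc _ s s, hss, mul_one]
    obtain ⟨x, hxF, hx1⟩ := hI.F_ne
    have hxC : x ∈ C := (hm x).2 ((hI.cent x hxF hx1 d).2 (hI.le_H hdM)).symm.eq
    obtain ⟨k, hk⟩ := (Finite.injective_iff_surjective.1 hinj) ⟨x, hxC⟩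
    have hk' : (k : G)⁻¹ * (s * k * s) = x := congrArg Subtype.val hk
    have hsx : s * x * s = x⁻¹ := by
      rw [← hk', mul_inv_rev, mul_inv_rev, mul_inv_rev, invol_inv hss, inv_inv,
        show s * ((k : G)⁻¹ * (s * k * s)) * s = s * (k : G)⁻¹ * s * k * (s * s) by group, hss]
      group
    have e := hfx s x hss hsM (hI.F_le hxF) (hsx ▸ inv_mem (hI.F_le hxF))
    rw [hsx] at e
    exact hx1 (hI.Fodd x hxF (by nth_rw 2 [← e]; exact mul_inv_cancel x))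
  obtain ⟨k, hk⟩ := cent_conj hC ht htt ht1 hss hs1
  obtain ⟨h, hh⟩ : ∃ h, h = (s * t) ^ k := ⟨_, rfl⟩
  simp only [← hh] at hk
  have hzA : h⁻¹ * z * h ∈ A := (hk z).1 hzs
  have hzF : h⁻¹ * z * h ∈ F := by
    by_contra hzF
    obtain ⟨i, hi, hi1⟩ := invol_of_not_F hI hzA hzF
    rw [show h⁻¹ * z * h = h⁻¹ * z * h⁻¹⁻¹ by group, conj_pow, inv_inv] at hi hi1
    refine hi1 ?_
    have hzi : z ^ i * z ^ i = 1 := by
      calc z ^ i * z ^ i = h * (h⁻¹ * z ^ i * h * (h⁻¹ * z ^ i * h)) * h⁻¹ := by group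
        _ = 1 := by rw [hi]; group
    rw [hnoinv _ hzi (hzd.pow_left i).symm]; group
  obtain ⟨d0, hd0⟩ : ∃ d0, d0 = h⁻¹ * d * h := ⟨_, rfl⟩
  obtain ⟨τ, hτ⟩ : ∃ τ, τ = h⁻¹ * s * h := ⟨_, rfl⟩
  have hτA : τ ∈ A := hτ ▸ (hk s).1 (Commute.refl s)
  have hττ : τ * τ = 1 := by
    rw [hτ, show h⁻¹ * s * h * (h⁻¹ * s * h) = h⁻¹ * (s * s) * h by group, hss]; group
  have hτd : τ * d0 * τ = d0⁻¹ := by
    rw [hτ, hd0, show h⁻¹ * s * h * (h⁻¹ * d * h) * (h⁻¹ * s * h) = h⁻¹ * (s * d * s) * h by group, hsd]; group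
  have hd0H : d0 ∈ H := (hI.cent _ hzF (fun e => hz1 (by
      calc z = h * (h⁻¹ * z * h) * h⁻¹ := by group
        _ = 1 := by rw [e]; group)) d0).1 (by
    rw [hd0]
    show h⁻¹ * d * h * (h⁻¹ * z * h) = h⁻¹ * z * h * (h⁻¹ * d * h)
    rw [show h⁻¹ * d * h * (h⁻¹ * z * h) = h⁻¹ * (d * z) * h by group, hzd.symm.eq]; group)
  have hhH : h ∉ H := fun hh' => hsH (by
    have := mul_mem (mul_mem hh' (hI.le_H (A_le hτA))) (inv_mem hh')
    rwa [hτ, show h * (h⁻¹ * s * h) * h⁻¹ = s by group] at this)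
  have hd0l : d0 ^ ℓ = 1 := by
    rw [hd0, show h⁻¹ * d * h = h⁻¹ * d * h⁻¹⁻¹ by group, conj_pow, hdl]; group
  obtain ⟨p, hpH, hp⟩ := (exists_fixed hI hdM hdA hdl hd0H hd0l hl2).1
  obtain ⟨d1, hd1d⟩ : ∃ d1, d1 = p⁻¹ * d0 * p := ⟨_, rfl⟩
  rw [← hd1d] at hp
  obtain ⟨r, hr⟩ : ∃ r, r = τ * p := ⟨_, rfl⟩
  have hrH : r ∈ H := hr ▸ mul_mem (hI.le_H (A_le hτA)) hpH
  have key : ∀ q : G, q ∈ H → q⁻¹ * d0 * q ∈ Hn A → ∃ sq : G, sq * sq = 1 ∧ h * q * sq ∈ Hn A ∧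
      sq * (q⁻¹ * d0 * q) * sq = (q⁻¹ * d0 * q)⁻¹ := by
    intro q hq hqd
    have hqH : q⁻¹ * h⁻¹ ∉ H := fun e => hhH (by
      have := inv_mem (mul_mem hq e)
      rwa [mul_inv_cancel_left, inv_inv] at this)
    obtain ⟨⟨sq, hsq, hsqM⟩, -⟩ := coset_facts hC hfx (fun e => hqH (hI.le_H e))
    rw [mul_inv_rev, inv_inv, inv_inv] at hsqM
    refine ⟨sq, hsq, hsqM, inv_exact hI hqH hsq (by rwa [mul_inv_rev, inv_inv, inv_inv]) hqd ?_⟩
    rw [show (q⁻¹ * h⁻¹)⁻¹ * (q⁻¹ * d0 * q) * (q⁻¹ * h⁻¹) = h * d0 * h⁻¹ by group, hd0,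
      show h * (h⁻¹ * d * h) * h⁻¹ = d by group]
    exact hdM
  have hrd : r⁻¹ * d0 * r = d1⁻¹ := by
    rw [hr, mul_inv_rev, invol_inv hττ, show p⁻¹ * τ * d0 * (τ * p) = p⁻¹ * (τ * d0 * τ) * p by group, hτd,
      hd1d]; group
  obtain ⟨sa, hsa, hsaM, hsai⟩ := key p hpH (hd1d ▸ hp)
  obtain ⟨sb, hsb, hsbM, hsbi⟩ := key r hrH (hrd ▸ inv_mem hp)
  rw [← hd1d] at hsai
  rw [hrd, inv_inv] at hsbi
  obtain ⟨v, hv⟩ : ∃ v, v = (h * r * sb)⁻¹ * (h * p * sa) := ⟨_, rfl⟩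
  have hvM : v ∈ Hn A := hv ▸ mul_mem (inv_mem hsbM) hsaM
  have hvinv : v * d1 * v⁻¹ = d1⁻¹ := by
    have e : v = sb * (p⁻¹ * τ * p) * sa := by
      rw [hv, hr, mul_inv_rev, mul_inv_rev, mul_inv_rev, invol_inv hsb, invol_inv hττ]; group
    rw [e, mul_inv_rev, mul_inv_rev, mul_inv_rev, mul_inv_rev, inv_inv, invol_inv hsa, invol_inv hsb,
      invol_inv hττ,
      show sb * (p⁻¹ * τ * p) * sa * d1 * (sa * (p⁻¹ * (τ * p) * sb)) =
        sb * (p⁻¹ * τ * p) * (sa * d1 * sa) * (p⁻¹ * τ * p) * sb by group, hsai, hd1d,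
      show sb * (p⁻¹ * τ * p) * (p⁻¹ * d0 * p)⁻¹ * (p⁻¹ * τ * p) * sb = sb * (p⁻¹ * (τ * d0⁻¹ * τ) * p) * sb by
        group,
      show τ * d0⁻¹ * τ = (τ * d0 * τ)⁻¹ by rw [mul_inv_rev, mul_inv_rev, invol_inv hττ, mul_assoc], hτd, inv_inv,
      ← hd1d]
    calc sb * d1 * sb = (sb * d1⁻¹ * sb)⁻¹ := by
          rw [mul_inv_rev, mul_inv_rev, invol_inv hsb, inv_inv, mul_assoc]
      _ = d1⁻¹ := by rw [hsbi]
  have h1 := comm_mod hI hvM hp
  rw [hvinv] at h1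
  have h2 : d1 * d1 ∈ A := by
    have := inv_mem h1
    rwa [mul_inv_rev, inv_inv] at this
  have hd1o : Odd (orderOf d1) := by
    have hd1l : d1 ^ ℓ = 1 := by
      rw [hd1d, show p⁻¹ * d0 * p = p⁻¹ * d0 * p⁻¹⁻¹ by group, conj_pow, hd0l]; group
    exact Odd.of_dvd_nat (hl.odd_of_ne_two hl2) (orderOf_dvd_of_pow_eq_one hd1l)
  obtain ⟨i, hi⟩ := eq_sq_pow hd1o
  have hd1A : d1 ∈ A := hi ▸ pow_mem h2 i
  have hcw : Commute d1 t := comm hC hd1A ht
  refine ht1 ?_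
  have := hnoinv (h * p * t * (h * p)⁻¹) (conj_invol htt) ?_
  · calc t = (h * p)⁻¹ * (h * p * t * (h * p)⁻¹) * (h * p) := by group
      _ = 1 := by rw [this]; group
  · have e : d = (h * p) * d1 * (h * p)⁻¹ := by rw [hd1d, hd0]; group
    rw [e]
    show h * p * d1 * (h * p)⁻¹ * (h * p * t * (h * p)⁻¹) = h * p * t * (h * p)⁻¹ * (h * p * d1 * (h * p)⁻¹)
    rw [show h * p * d1 * (h * p)⁻¹ * (h * p * t * (h * p)⁻¹) = h * p * (d1 * t) * (h * p)⁻¹ by group, hcw.eq]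
    group

end Cfsg.Agent.Classical.InvAb
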