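/-
Involution centralizers containing their element centralizers up to the normalizer are elementary abelian.
-/
import Cfsg.Agent.Lib.Classical.InvAb.Layer
import Cfsg.Agent.S0885

set_option autoImplicit false
set_option linter.unusedSectionVars false
set_option linter.style.haveILetI false

open Cfsg

namespace Cfsg.Agent.Classical.InvAb

variable {G : Type*} [Group G] [Finite G]

/-- Centralizers of elements of `A` lie in `N(A)`; there is no odd normal subgroup. -/
structure CaseII (A : Subgroup G) : Prop where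
  ctx : Ctx A
  cent : ∀ a ∈ A, a ≠ 1 → ∀ c, Commute c a → c ∈ Hn A
  core : ∀ N : Subgroup G, N.Normal → (∀ x ∈ N, x * x = 1 → x = 1) → N = ⊥

/-- `N(A) ∩ N(A)^g`. -/
def Dg (A : Subgroup G) (g : G) : Subgroup G := Hn A ⊓ (Hn A).map (MulAut.conj g).toMonoidHom

theorem mem_Dg {A : Subgroup G} {g x : G} : x ∈ Dg A g ↔ x ∈ Hn A ∧ g⁻¹ * x * g ∈ Hn A := by
  rw [Dg, Subgroup.mem_inf, Local.mem_conj_map]

variable {A : Subgroup G} (hII : CaseII A)

include hII

theorem fix_one {s x : G} (hss : s * s = 1) (hs : s ∉ Hn A) (hx : x ∈ A) (hsx : s * x * s ∈ A) : x = 1 := by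
  by_contra hx1
  obtain ⟨t, ht, htt, ht1⟩ := exists_invol hII.ctx
  have hc : Commute (s * t * s) x := by
    have h1 := (comm hII.ctx ht hsx).eq
    show s * t * s * x = x * (s * t * s)
    calc s * t * s * x = s * t * s * x * (s * s) := by rw [hss, mul_one]
      _ = s * (t * (s * x * s)) * s := by group
      _ = s * (s * x * s * t) * s := by rw [h1]
      _ = (s * s) * x * s * t * s := by group
      _ = _ := by rw [hss]; group
  have h2 := hII.cent x hx hx1 _ hc
  have h3 : s * t * s * (s * t * s) = 1 := by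
    rw [show s * t * s * (s * t * s) = s * t * (s * s) * t * s by group, hss, mul_one, mul_assoc s t t, htt,
      mul_one, hss]
  have h4 := invol_H hII.ctx h2 h3
  exact hs (ti hII.ctx ht htt ht1 (by rwa [invol_inv hss]))

theorem fixII : HFix A := fun s x hss hs hx hsx => by
  rw [fix_one hII hss hs hx hsx, mul_one, hss]

theorem inter_one {g a : G} (hg : g ∉ Hn A) (ha : a ∈ A) (hga : g⁻¹ * a * g ∈ Hn A) : a = 1 := by
  by_contra ha1
  have hC := hII.ctx
  obtain ⟨⟨s, hss, hs⟩, -⟩ := coset_facts hC (fixII hII) hg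
  have hsM : s ∉ Hn A := fun h => hg (by
    have := mul_mem h (inv_mem hs)
    rwa [mul_inv_rev, inv_inv, ← mul_assoc, mul_inv_cancel, one_mul] at this)
  have hyM : s * a * s ∈ Hn A := by
    have := mul_mem (mul_mem (inv_mem hs) hga) hs
    rwa [mul_inv_rev, inv_inv, invol_inv hss,
      show s * g * (g⁻¹ * a * g) * (g⁻¹ * s) = s * a * s by group] at this
  obtain ⟨y, hy⟩ : ∃ y, y = s * a * s := ⟨_, rfl⟩
  rw [← hy] at hyM
  have hsy : s * y * s = a := by
    rw [hy, show s * (s * a * s) * s = (s * s) * a * (s * s) by group, hss, one_mul, mul_one]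
  have hya : a * y = y * a := by
    have hz : a * y * a⁻¹ * y⁻¹ ∈ A := by
      have := mul_mem ha (conj_A hyM (inv_mem ha))
      rwa [show a * (y * a⁻¹ * y⁻¹) = a * y * a⁻¹ * y⁻¹ by group] at this
    have e : s * (a * y * a⁻¹ * y⁻¹) * s = (a * y * a⁻¹ * y⁻¹)⁻¹ := by
      calc s * (a * y * a⁻¹ * y⁻¹) * s
          = s * a * (s * s) * y * (s * s) * a⁻¹ * (s * s) * y⁻¹ * s := by rw [hss]; group
        _ = (s * a * s) * (s * y * s) * (s * a * s)⁻¹ * (s * y * s)⁻¹ := by
            simp only [mul_inv_rev, invol_inv hss]; group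
        _ = y * a * y⁻¹ * a⁻¹ := by rw [← hy, hsy]
        _ = _ := by group
    have h1 := fix_one hII hss hsM hz (e ▸ inv_mem hz)
    calc a * y = (a * y * a⁻¹ * y⁻¹) * (y * a) := by group
      _ = y * a := by rw [h1, one_mul]
  obtain ⟨c, hcd⟩ : ∃ c, c = a * y := ⟨_, rfl⟩
  obtain ⟨d, hdd⟩ : ∃ d, d = a * y⁻¹ := ⟨_, rfl⟩
  have hsc : s * c * s = c := by
    calc s * c * s = (s * a * s) * (s * y * s) := by
          rw [hcd, show s * a * s * (s * y * s) = s * a * (s * s) * y * s by group, hss]; group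
      _ = y * a := by rw [← hy, hsy]
      _ = c := by rw [hcd, hya]
  have hsd : s * d * s = d⁻¹ := by
    calc s * d * s = (s * a * s) * (s * y * s)⁻¹ := by
          rw [hdd, mul_inv_rev, mul_inv_rev, invol_inv hss,
            show s * a * s * (s * (y⁻¹ * s)) = s * a * (s * s) * y⁻¹ * s by group, hss]
          group
      _ = y * a⁻¹ := by rw [← hy, hsy]
      _ = d⁻¹ := by rw [hdd]; group
  have hdc : Commute d c := by
    rw [hdd, hcd]
    exact ((Commute.refl a).mul_right hya).mul_left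
      ((Commute.mul_right (show Commute y a from hya.symm) (Commute.refl y)).inv_left)
  have hc1 : c ≠ 1 := fun e => by
    refine ha1 (fix_one hII hss hsM ha ?_)
    rw [← hy, show y = a⁻¹ * c by rw [hcd, inv_mul_cancel_left], e, mul_one]
    exact inv_mem ha
  have hd1 : d ≠ 1 := fun e => ha1 (fix_one hII hss hsM ha (by
    rw [← hy, show y = a by rw [hdd, mul_inv_eq_one] at e; exact e.symm]
    exact ha))
  have hcs : Commute c s := by
    show c * s = s * c
    calc c * s = s * c * s * s := by rw [hsc]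
      _ = s * c := by rw [mul_assoc _ s s, hss, mul_one]
  have hs1 : s ≠ 1 := fun e => hsM (e ▸ one_mem _)
  obtain ⟨t, ht, htt, ht1⟩ := exists_invol hC
  obtain ⟨k, hk⟩ := cent_conj hC ht htt ht1 hss hs1
  obtain ⟨h, hh⟩ : ∃ h, h = (s * t) ^ k := ⟨_, rfl⟩
  simp only [← hh] at hk
  have hsdsd : s * d * (s * d) = 1 := by rw [← mul_assoc, hsd, inv_mul_cancel]
  have h5 : h⁻¹ * (s * d) * h ∈ Hn A := hII.cent _ ((hk c).1 hcs) (fun e => hc1 (by
      calc c = h * (h⁻¹ * c * h) * h⁻¹ := by group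
        _ = 1 := by rw [e]; group)) _ (by
    have e := (hcs.symm.mul_left hdc).eq
    show h⁻¹ * (s * d) * h * (h⁻¹ * c * h) = h⁻¹ * c * h * (h⁻¹ * (s * d) * h)
    rw [show h⁻¹ * (s * d) * h * (h⁻¹ * c * h) = h⁻¹ * (s * d * c) * h by group, e]; group)
  have h6 := invol_H hC h5 (by
    rw [show h⁻¹ * (s * d) * h * (h⁻¹ * (s * d) * h) = h⁻¹ * (s * d * (s * d)) * h by group, hsdsd]; group)
  have h7 : Commute (s * d) s := (hk (s * d)).2 h6
  have hdd2 : d * d = 1 := by
    have : s * d * s = d := by rw [h7.eq, ← mul_assoc, hss, one_mul]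
    rw [hsd] at this
    calc d * d = d⁻¹ * d := by rw [this]
      _ = 1 := inv_mul_cancel d
  have hdM : d ∈ Hn A := hdd ▸ mul_mem (A_le ha) (inv_mem hyM)
  refine hd1 (no_invol_D hC (g := s) hsM hdM ?_ hdd2)
  rw [invol_inv hss, hsd]; exact inv_mem hdM

theorem layerII : Layer A ⊤ ⊥ where
  ctx := hII.ctx
  fix := fixII hII
  le_H := le_top
  ZA := bot_le
  Zc z hz h _ := by rw [Subgroup.mem_bot.1 hz]; exact Commute.one_right h
  Zodd z hz _ := Subgroup.mem_bot.1 hz
  cent x hx hxZ c _ hc := hII.cent x hx (fun e => hxZ (e ▸ one_mem _)) c hc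
  inter g _ hg a ha hga := Subgroup.mem_bot.2 (inter_one hII hg ha hga)

theorem Dg_A {g x : G} (hg : g ∉ Hn A) (hx : x ∈ Dg A g) (hxA : x ∈ A) : x = 1 :=
  inter_one hII hg hxA (mem_Dg.1 hx).2

variable {u : G} (huu : u * u = 1) (huH : u ∉ Hn A)

include huu huH

theorem reps {h : G} (hh : h ∈ Hn A) : ∃ d ∈ Dg A u, d⁻¹ * h ∈ A := by
  obtain ⟨j, hj, huj, -, hjh⟩ := (coset_facts hII.ctx (fixII hII) huH).2 u huu (by simp) h hh
  exact ⟨j, mem_Dg.2 ⟨hj, huj⟩, hjh⟩

theorem card_D : Nat.card (Dg A u) = Nat.card (Inv A) := by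
  have hb : Function.Bijective (fun p : Dg A u × A => (⟨p.1 * p.2, mul_mem (mem_Dg.1 p.1.2).1 (A_le p.2.2)⟩ : Hn A)) := by
    refine ⟨?_, ?_⟩
    · rintro ⟨a, x⟩ ⟨b, y⟩ e
      have e1 : (a : G) * x = b * y := congrArg Subtype.val e
      have e2 : (b : G)⁻¹ * a = y * (x : G)⁻¹ := by
        calc (b : G)⁻¹ * a = (b : G)⁻¹ * ((a : G) * x) * (x : G)⁻¹ := by group
          _ = (b : G)⁻¹ * ((b : G) * y) * (x : G)⁻¹ := by rw [e1]
          _ = _ := by group
      have h0 := Dg_A hII huH (mul_mem (inv_mem b.2) a.2) (e2 ▸ mul_mem y.2 (inv_mem x.2))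
      have hab : a = b := Subtype.ext (inv_mul_eq_one.1 h0).symm
      subst hab
      exact Prod.ext rfl (Subtype.ext (mul_left_cancel e1))
    · rintro ⟨g, hg⟩
      obtain ⟨d, hd, e⟩ := reps hII huu huH hg
      exact ⟨(⟨d, hd⟩, ⟨_, e⟩), Subtype.ext (mul_inv_cancel_left d g)⟩
  have h1 := Nat.card_eq_of_bijective _ hb
  rw [Nat.card_prod, card_H hII.ctx, mul_comm (Nat.card (Dg A u))] at h1
  exact Nat.eq_of_mul_eq_mul_left Nat.card_pos h1

theorem C_eq {d : G} (hd : d ∈ Dg A u) (hd1 : d ≠ 1) {c : G} (hc : c * d = d * c) : c ∈ Dg A u := by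
  obtain ⟨hdM, hud⟩ := mem_Dg.1 hd
  rw [invol_inv huu] at hud
  have := K_le_R (layerII hII) (Subgroup.mem_top u) huu huH hdM hud (fun e => hd1 (Subgroup.mem_bot.1 e))
    ((mem_Ky (layerII hII)).2 ⟨Subgroup.mem_top c, by rw [hc, mul_inv_cancel_right, mul_inv_cancel]; exact one_mem _⟩)
  exact mem_Dg.2 ⟨this.1, by rw [invol_inv huu]; exact this.2⟩

theorem exists_D_ne_one : ∃ d ∈ Dg A u, d ≠ 1 := by
  by_contra hno
  push Not at hno
  have h1 := card_D hII huu huH
  rw [(Subgroup.eq_bot_iff_forall _).2 hno, Subgroup.card_bot] at h1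
  have := two_le_inv hII.ctx
  omega

theorem cent_A {a c : G} (ha : a ∈ A) (ha1 : a ≠ 1) (hc : Commute c a) : c ∈ A := by
  obtain ⟨d, hd, hdc⟩ := reps hII huu huH (hII.cent a ha ha1 c hc)
  by_cases hd1 : d = 1
  · rwa [hd1, inv_one, one_mul] at hdc
  exfalso
  have hda : Commute d a := by
    have := hc.mul_left (comm hII.ctx hdc ha).inv_left
    rwa [mul_inv_rev, inv_inv, mul_inv_cancel_left] at this
  exact ha1 (Dg_A hII huH (C_eq hII huu huH hd hd1 hda.symm.eq) ha)

theorem fixedII {d : G} (hd : d ∈ Dg A u) (hd1 : d ≠ 1) {g : G} (hg : g⁻¹ * d * g ∈ Hn A) :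
    g ∈ Hn A ∨ u⁻¹ * g ∈ Hn A := by
  obtain ⟨hdM, hud⟩ := mem_Dg.1 hd
  rw [invol_inv huu] at hud ⊢
  exact fixed (layerII hII) (Subgroup.mem_top u) huu huH hdM hud (fun e => hd1 (Subgroup.mem_bot.1 e))
    (Subgroup.mem_top g) hg

/-- `A` is transitive outside `N(A)`. -/
theorem bruhat {g : G} (hg : g ∉ Hn A) : ∃ t ∈ A, (t * u)⁻¹ * g ∈ Hn A := by
  classical
  haveI : Fintype G := Fintype.ofFinite G
  have hmem : ∀ p : A × {d : Dg A u // d ≠ 1},
      (p.1 : G) * p.2.1 * (p.1 : G)⁻¹ ∈ Hn A ∧ (p.1 : G) * p.2.1 * (p.1 : G)⁻¹ ∉ A := by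
    rintro ⟨t, d, hd1⟩
    refine ⟨mul_mem (mul_mem (A_le t.2) (mem_Dg.1 d.2).1) (inv_mem (A_le t.2)), fun hT => hd1 (Subtype.ext ?_)⟩
    refine Dg_A hII huH d.2 ?_
    have := mul_mem (mul_mem (inv_mem t.2) hT) t.2
    rwa [show (t : G)⁻¹ * ((t : G) * d * (t : G)⁻¹) * t = d by group] at this
  let Φ : A × {d : Dg A u // d ≠ 1} → {x : Hn A // (x : G) ∉ A} := fun p => ⟨⟨_, (hmem p).1⟩, (hmem p).2⟩
  have hinj : Function.Injective Φ := by
    rintro ⟨a, d, hd1⟩ ⟨b, e, he1⟩ heq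
    have e1 : (a : G) * d * (a : G)⁻¹ = (b : G) * e * (b : G)⁻¹ :=
      congrArg (fun w : {x : Hn A // (x : G) ∉ A} => (w.1 : G)) heq
    obtain ⟨c, hc⟩ : ∃ c, c = (b : G)⁻¹ * a := ⟨_, rfl⟩
    have hcA : c ∈ A := hc ▸ mul_mem (inv_mem b.2) a.2
    have e2 : c * d * c⁻¹ = e := by
      rw [hc, show (b : G)⁻¹ * a * d * ((b : G)⁻¹ * a)⁻¹ = (b : G)⁻¹ * ((a : G) * d * (a : G)⁻¹) * b by group, e1]
      group
    have h0 : c * d * c⁻¹ * (d : G)⁻¹ = 1 := by
      refine Dg_A hII huH (e2.symm ▸ mul_mem e.2 (inv_mem d.2)) ?_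
      rw [show c * d * c⁻¹ * (d : G)⁻¹ = c * (d * c⁻¹ * (d : G)⁻¹) by group]
      exact mul_mem hcA (conj_A (mem_Dg.1 d.2).1 (inv_mem hcA))
    have hde : (d : G) = e := by rw [← e2]; exact (mul_inv_eq_one.1 h0).symm
    have hc1 : c = 1 := Dg_A hII huH (C_eq hII huu huH d.2 (fun e' => hd1 (Subtype.ext e'))
      (mul_inv_eq_iff_eq_mul.1 (mul_inv_eq_one.1 h0))) hcA
    rw [hc, inv_mul_eq_one] at hc1
    exact Prod.ext (Subtype.ext hc1.symm) (Subtype.ext (Subtype.ext hde))
  have hcard : Fintype.card (A × {d : Dg A u // d ≠ 1}) = Fintype.card {x : Hn A // (x : G) ∉ A} := by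
    have hT : Fintype.card {x : Hn A // (x : G) ∈ A} = Fintype.card A :=
      Fintype.card_congr
        { toFun := fun x => ⟨x.1.1, x.2⟩
          invFun := fun x => ⟨⟨x.1, A_le x.2⟩, x.2⟩
          left_inv := fun x => rfl
          right_inv := fun x => rfl }
    have hD := card_D hII huu huH
    have hH := card_H hII.ctx
    rw [Fintype.card_prod, Fintype.card_subtype_compl, Fintype.card_subtype_compl, hT]
    simp only [Nat.card_eq_fintype_card] at hD hH
    rw [hH, hD, Fintype.card_subtype_eq, Nat.mul_sub_left_distrib, mul_one]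
  have hsurj := ((Fintype.bijective_iff_injective_and_card Φ).2 ⟨hinj, hcard⟩).2
  obtain ⟨h, hh, hhA⟩ : ∃ h ∈ Hn A, h ∉ A := by
    obtain ⟨d, hd, hd1⟩ := exists_D_ne_one hII huu huH
    exact ⟨d, (mem_Dg.1 hd).1, fun e => hd1 (Dg_A hII huH hd e)⟩
  obtain ⟨⟨s, hss, hs⟩, hcs⟩ := coset_facts hII.ctx (fixII hII) hg
  obtain ⟨x, hxM, hgx, -, hxh⟩ := hcs s hss hs h hh
  have hxA : x ∉ A := fun e => hhA (by simpa using mul_mem e hxh)
  obtain ⟨⟨t, d, hd1⟩, hp⟩ := hsurj ⟨⟨x, hxM⟩, hxA⟩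
  have hxe : (t : G) * d * (t : G)⁻¹ = x := congrArg (fun w : {x : Hn A // (x : G) ∉ A} => (w.1 : G)) hp
  refine ⟨t, t.2, ?_⟩
  have hfix : ((t : G)⁻¹ * g)⁻¹ * d * ((t : G)⁻¹ * g) ∈ Hn A := by
    rw [show ((t : G)⁻¹ * g)⁻¹ * d * ((t : G)⁻¹ * g) = g⁻¹ * ((t : G) * d * (t : G)⁻¹) * g by group, hxe]
    exact hgx
  rcases fixedII hII huu huH d.2 (fun e => hd1 (Subtype.ext e)) hfix with h1 | h1
  · exact absurd (by simpa using mul_mem (A_le t.2) h1) hg
  · rwa [mul_inv_rev, mul_assoc]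

theorem free {t t' : G} (ht : t ∈ A) (ht' : t' ∈ A) (he : (t * u)⁻¹ * (t' * u) ∈ Hn A) : t = t' := by
  have hee : u⁻¹ * (t⁻¹ * t') * u ∈ Hn A := by
    rwa [show u⁻¹ * (t⁻¹ * t') * u = (t * u)⁻¹ * (t' * u) by group]
  exact inv_mul_eq_one.1 (inter_one hII huH (mul_mem (inv_mem ht) ht') hee)

/-- The action on the cosets of `N(A)` is a Zassenhaus action. -/
theorem zassenhaus : IsZassenhausGroup G (G ⧸ Hn A) := by
  classical
  have hC := hII.ctx
  have fix_base : ∀ g : G, g • (QuotientGroup.mk 1 : G ⧸ Hn A) = QuotientGroup.mk 1 ↔ g ∈ Hn A := fun g => by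
    rw [MulAction.Quotient.smul_mk, smul_eq_mul, mul_one, QuotientGroup.eq]; simp
  have mk_tu : ∀ x : G ⧸ Hn A, x ≠ QuotientGroup.mk 1 → ∃ t ∈ A, (QuotientGroup.mk (t * u) : G ⧸ Hn A) = x := by
    intro x hx
    obtain ⟨g, rfl⟩ := QuotientGroup.mk_surjective x
    obtain ⟨t, ht, e⟩ := bruhat hII huu huH (g := g) fun hg => hx (QuotientGroup.eq.2 (by simpa using hg))
    exact ⟨t, ht, QuotientGroup.eq.2 e⟩
  obtain ⟨d₀, hd₀, hd₀1⟩ := exists_D_ne_one hII huu huH
  have hfix₀ : d₀ • (QuotientGroup.mk u : G ⧸ Hn A) = QuotientGroup.mk u := by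
    rw [MulAction.Quotient.smul_mk, smul_eq_mul, QuotientGroup.eq, mul_inv_rev]
    have := inv_mem (mem_Dg.1 hd₀).2
    simpa [mul_assoc] using this
  have hne : (QuotientGroup.mk 1 : G ⧸ Hn A) ≠ QuotientGroup.mk u := fun e => huH (by
    rw [QuotientGroup.eq] at e; simpa using e)
  have std : ∀ x y : G ⧸ Hn A, x ≠ y → ∃ g : G, g • x = QuotientGroup.mk 1 ∧ g • y = QuotientGroup.mk u := by
    intro x y hxy
    obtain ⟨a, rfl⟩ := QuotientGroup.mk_surjective x
    have ha : a⁻¹ • (QuotientGroup.mk a : G ⧸ Hn A) = QuotientGroup.mk 1 := by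
      rw [MulAction.Quotient.smul_mk, smul_eq_mul, inv_mul_cancel]
    obtain ⟨t, ht, e2⟩ := mk_tu (a⁻¹ • y) fun e => hxy (MulAction.injective a⁻¹ (ha.trans e.symm))
    refine ⟨t⁻¹ * a⁻¹, ?_, ?_⟩
    · rw [mul_smul, ha, fix_base]; exact inv_mem (A_le ht)
    · rw [mul_smul, ← e2, MulAction.Quotient.smul_mk, smul_eq_mul, inv_mul_cancel_left]
  have noinv : ∀ {N : Subgroup G}, N.Normal → (∀ x ∈ N, x * x = 1 → x = 1) ∨ ∃ x ∈ N, x * x = 1 ∧ x ≠ 1 := by
    intro N _
    by_cases h : ∀ x ∈ N, x * x = 1 → x = 1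
    · exact Or.inl h
    · push Not at h
      exact Or.inr h
  refine ⟨⟨fun {g g'} hgg => ?_⟩, ?_, ?_, ⟨d₀, hd₀1, _, _, hne, (fix_base d₀).2 (mem_Dg.1 hd₀).1, hfix₀⟩, ?_⟩
  · have hmem : g⁻¹ * g' ∈ (Hn A).normalCore := fun b => by
      have e := hgg (QuotientGroup.mk b⁻¹)
      rw [MulAction.Quotient.smul_mk, MulAction.Quotient.smul_mk, smul_eq_mul, smul_eq_mul, QuotientGroup.eq] at e
      rwa [show (g * b⁻¹)⁻¹ * (g' * b⁻¹) = b * (g⁻¹ * g') * b⁻¹ by group] at e
    have hK : (Hn A).normalCore = ⊥ := by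
      refine hII.core _ inferInstance fun x hx hxx => ?_
      by_contra hx1
      have hall : ∀ g : G, g * x * g⁻¹ ∈ A := fun g => invol_H hC (hx g) (conj_invol hxx)
      obtain ⟨y, hy⟩ : ∃ y : G, y ∉ A := ⟨u, fun e => huH (A_le e)⟩
      exact hy ((cent_iff hC (by simpa using hall 1) hxx hx1).1 (central_of hC hall y))
    rw [hK, Subgroup.mem_bot, inv_mul_eq_one] at hmem
    exact hmem
  · rw [MulAction.is_two_pretransitive_iff]
    intro a b c d hab hcd
    obtain ⟨g, g1, g2⟩ := std a b hab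
    obtain ⟨k, k1, k2⟩ := std c d hcd
    exact ⟨k⁻¹ * g, by rw [mul_smul, g1, ← k1, inv_smul_smul], by rw [mul_smul, g2, ← k2, inv_smul_smul]⟩
  · intro g a b c hab hbc hac ga gb gc
    obtain ⟨k, k1, k2⟩ := std a b hab
    have hk : ∀ x : G ⧸ Hn A, g • x = x → (k * g * k⁻¹) • (k • x) = k • x := fun x e => by
      rw [← mul_smul, inv_mul_cancel_right, mul_smul, e]
    obtain ⟨d, hd⟩ : ∃ d, d = k * g * k⁻¹ := ⟨_, rfl⟩
    have e1 := hk a ga; rw [k1, ← hd] at e1
    have e2 := hk b gb; rw [k2, ← hd] at e2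
    have e3 := hk c gc; rw [← hd] at e3
    obtain ⟨t, ht, e4⟩ := mk_tu (k • c) fun e => hac (MulAction.injective k (k1.trans e.symm))
    have hdD : d ∈ Dg A u := mem_Dg.2 ⟨(fix_base d).1 e1, by
      rw [MulAction.Quotient.smul_mk, smul_eq_mul, QuotientGroup.eq] at e2
      have := inv_mem e2
      simpa [mul_assoc] using this⟩
    have ht1 : t ≠ 1 := fun e => hbc (MulAction.injective k (by
      show k • b = k • c
      rw [k2, ← e4, e, one_mul]))
    have hdt : d * t * d⁻¹ = t := by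
      refine free hII huu huH (conj_A (mem_Dg.1 hdD).1 ht) ht ?_
      rw [← e4, MulAction.Quotient.smul_mk, smul_eq_mul, QuotientGroup.eq] at e3
      have h2 : (d * t * d⁻¹ * u)⁻¹ * (t * u) = u⁻¹ * d * u * ((d * (t * u))⁻¹ * (t * u)) := by group
      rw [h2]
      exact mul_mem (mem_Dg.1 hdD).2 e3
    have hd1 := Dg_A hII huH hdD (cent_A hII huu huH ht ht1 (mul_inv_eq_iff_eq_mul.1 hdt))
    rw [hd1] at hd
    simpa using hd.symm
  · intro N hN htr
    obtain ⟨⟨g, hg⟩, hgx⟩ := htr.exists_smul_eq (QuotientGroup.mk 1 : G ⧸ Hn A) (QuotientGroup.mk u)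
    rcases noinv hN with h | ⟨x, hx, hxx, hx1⟩
    · exfalso
      have hNb := hII.core N hN h
      rw [hNb, Subgroup.mem_bot] at hg
      subst hg
      exact hne (by simpa [Subgroup.smul_def] using hgx)
    · obtain ⟨t, ht, htt, ht1⟩ := exists_invol hC
      obtain ⟨k, hk⟩ := cent_conj hC ht htt ht1 hxx hx1
      refine ⟨QuotientGroup.mk ((x * t) ^ k), fun hb => hx1 ?_⟩
      have hm : (⟨x, hx⟩ : N) ∈ MulAction.stabilizer N (QuotientGroup.mk ((x * t) ^ k) : G ⧸ Hn A) := by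
        refine MulAction.mem_stabilizer_iff.2 ?_
        show x • (QuotientGroup.mk ((x * t) ^ k) : G ⧸ Hn A) = _
        rw [MulAction.Quotient.smul_mk, smul_eq_mul, QuotientGroup.eq, mul_inv_rev, invol_inv hxx]
        exact A_le ((hk x).1 (Commute.refl x))
      have h1 : (⟨x, hx⟩ : N) = 1 := Subgroup.mem_bot.1 ((le_of_eq hb) hm)
      exact congrArg Subtype.val h1

theorem odd_inv : Odd (Nat.card (Inv A)) := by
  classical
  haveI : Fact (Nat.Prime 2) := ⟨Nat.prime_two⟩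
  rw [← card_D hII huu huH, Nat.odd_iff, ← Nat.two_dvd_ne_zero]
  intro hd
  obtain ⟨⟨x, hx⟩, hxo⟩ := exists_prime_orderOf_dvd_card' 2 hd
  rw [Subgroup.orderOf_mk] at hxo
  have := no_invol_D hII.ctx huH (mem_Dg.1 hx).1 (mem_Dg.1 hx).2
    (by rw [← sq, ← hxo]; exact pow_orderOf_eq_one x)
  rw [this, orderOf_one] at hxo
  omega

omit huu huH

/-- The centralizer of an involution is elementary abelian. -/
theorem elementary : ∀ c ∈ A, c * c = 1 := by
  classical
  have hC := hII.ctx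
  obtain ⟨u, huu, huH⟩ := exists_invol_outside hC
  letI : Fintype (G ⧸ Hn A) := Fintype.ofFinite _
  have fix_base : ∀ g : G, g • (QuotientGroup.mk 1 : G ⧸ Hn A) = QuotientGroup.mk 1 ↔ g ∈ Hn A := fun g => by
    rw [MulAction.Quotient.smul_mk, smul_eq_mul, mul_one, QuotientGroup.eq]; simp
  have hne : (QuotientGroup.mk 1 : G ⧸ Hn A) ≠ QuotientGroup.mk u := fun e => huH (by
    rw [QuotientGroup.eq] at e; simpa using e)
  have hstab : MulAction.stabilizer G (QuotientGroup.mk 1 : G ⧸ Hn A) ⊓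
      MulAction.stabilizer G (QuotientGroup.mk u : G ⧸ Hn A) = Dg A u := by
    ext g
    rw [Subgroup.mem_inf, MulAction.mem_stabilizer_iff, MulAction.mem_stabilizer_iff, fix_base, mem_Dg,
      MulAction.Quotient.smul_mk, smul_eq_mul, QuotientGroup.eq]
    refine and_congr_right fun _ => ?_
    rw [← inv_mem_iff (x := u⁻¹ * g * u)]
    simp [mul_assoc]
  have hcard : Nat.card A + 1 = Fintype.card (G ⧸ Hn A) := by
    have e : Option A ≃ G ⧸ Hn A := by
      refine Equiv.ofBijective (fun o => o.elim (QuotientGroup.mk 1) fun t => QuotientGroup.mk ((t : G) * u)) ⟨?_, ?_⟩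
      · rintro (_ | ⟨t, ht⟩) (_ | ⟨t', ht'⟩) h
        · rfl
        · exact absurd (by simpa using mul_mem (inv_mem (A_le ht')) (QuotientGroup.eq.1 h)) huH
        · exfalso
          have := inv_mem (QuotientGroup.eq.1 h)
          exact huH (by simpa using mul_mem (inv_mem (A_le ht)) this)
        · exact congrArg some (Subtype.ext (free hII huu huH ht ht' (QuotientGroup.eq.1 h)))
      · intro x
        obtain ⟨g, rfl⟩ := QuotientGroup.mk_surjective x
        by_cases hg : g ∈ Hn A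
        · exact ⟨none, QuotientGroup.eq.2 (by simpa using hg)⟩
        · obtain ⟨t, ht, e⟩ := bruhat hII huu huH hg
          exact ⟨some ⟨t, ht⟩, QuotientGroup.eq.2 e⟩
    rw [← Nat.card_eq_fintype_card, ← Nat.card_congr e, Finite.card_option]
  rcases S0885.result (zassenhaus hII huu huH) hne (Nat.card A) (Nat.card (Inv A)) hcard.symm
      (by rw [hstab, card_D hII huu huH]) (odd_inv hII huu huH) A (fun a ha => (fix_base a).2 (A_le ha)) hcard
      (fun a ha ha1 c hc => by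
        by_contra hc1
        obtain ⟨g, rfl⟩ := QuotientGroup.mk_surjective c
        obtain ⟨t, ht, e⟩ := bruhat hII huu huH (g := g) fun hg => hc1 (QuotientGroup.eq.2 (by simpa using hg))
        rw [← QuotientGroup.eq.2 e, MulAction.Quotient.smul_mk, smul_eq_mul, ← mul_assoc, QuotientGroup.eq] at hc
        have h1 := free hII huu huH (mul_mem ha ht) ht hc
        exact ha1 (mul_eq_right.1 h1)) with h | h
  · let K : Subgroup G := { carrier := {a | a ∈ A ∧ a * a = 1}
                            one_mem' := ⟨one_mem A, mul_one 1⟩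
                            mul_mem' := fun {a b} ha hb => ⟨mul_mem ha.1 hb.1, by
                              rw [show a * b * (a * b) = a * (b * a) * b by group, (comm hC hb.1 ha.1).eq,
                                show a * (a * b) * b = (a * a) * (b * b) by group, ha.2, hb.2, one_mul]⟩
                            inv_mem' := fun {a} ha => ⟨inv_mem ha.1, by rw [← mul_inv_rev, ha.2, inv_one]⟩ }
    have hK : Nat.card K = Nat.card (Inv A) + 1 := by
      have e : Option (Inv A) ≃ K := by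
        refine Equiv.ofBijective (fun o => o.elim 1 fun s => ⟨s.1, s.2.1, s.2.2.1⟩) ⟨?_, ?_⟩
        · rintro (_ | s) (_ | s') h
          · rfl
          · exact absurd (congrArg Subtype.val h).symm s'.2.2.2
          · exact absurd (congrArg Subtype.val h) s.2.2.2
          · exact congrArg some (Subtype.ext (congrArg (fun z : K => (z : G)) h))
        · rintro ⟨a, ha⟩
          by_cases ha1 : a = 1
          · exact ⟨none, Subtype.ext ha1.symm⟩
          · exact ⟨some ⟨a, ha.1, ha.2, ha1⟩, rfl⟩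
      rw [← Nat.card_congr e, Finite.card_option]
    have hle : K ≤ A := fun a ha => ha.1
    intro c hc
    by_contra hcc
    obtain ⟨j, hj⟩ := Subgroup.card_dvd_of_le hle
    have hj2 : 2 ≤ j := by
      by_contra hj2
      have hpos := Nat.card_pos (α := A)
      have : j = 1 := by
        rcases j with _ | _ | j
        · rw [mul_zero] at hj; omega
        · rfl
        · omega
      rw [this, mul_one] at hj
      exact hcc ((Subgroup.eq_of_le_of_card_ge hle hj.le).ge hc).2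
    have := Nat.mul_le_mul_left (Nat.card K) hj2
    rw [← hj, hK] at this
    omega
  · obtain ⟨-, ⟨⟨x, hx⟩, ⟨y, hy⟩, hxy⟩, -⟩ := h
    exact absurd (Subtype.ext (comm hC hx hy).eq) hxy

end Cfsg.Agent.Classical.InvAb
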