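/-
Squares in an abelian involution centralizer are central.
-/
import Cfsg.Agent.Lib.Classical.InvAb.CaseOne
import Cfsg.Agent.Lib.Classical.InvAb.CaseTwo
import Cfsg.Agent.Lib.Lie.StandardCore

set_option autoImplicit false
set_option linter.unusedSectionVars false

namespace Cfsg.Agent.Classical.InvAb

universe v

variable {G : Type v} [Group G] [Finite G]

theorem odd_card_of {N : Subgroup G} (h : ∀ x ∈ N, x * x = 1 → x = 1) : Odd (Nat.card N) := by
  classical
  haveI : Fact (Nat.Prime 2) := ⟨Nat.prime_two⟩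
  rw [Nat.odd_iff, ← Nat.two_dvd_ne_zero]
  intro hd
  obtain ⟨⟨x, hx⟩, hxo⟩ := exists_prime_orderOf_dvd_card' 2 hd
  rw [Subgroup.orderOf_mk] at hxo
  have := h x hx (by rw [← sq, ← hxo]; exact pow_orderOf_eq_one x)
  rw [this, orderOf_one] at hxo
  omega

variable {A : Subgroup G} (hC : Ctx A)

include hC

theorem center_no_invol {z : G} (hz : ∀ g : G, Commute g z) (hzz : z * z = 1) : z = 1 := by
  by_contra hz1
  obtain ⟨t, ht, htt, ht1⟩ := exists_invol hC
  have hzA : z ∈ A := (cent_iff hC ht htt ht1).1 (hz t).symm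
  exact Hn_ne_top hC (eq_top_iff.2 fun g _ => A_le ((cent_iff hC hzA hzz hz1).1 (hz g)))

theorem core_central {N : Subgroup G} (hN : N.Normal) (h : ∀ x ∈ N, x * x = 1 → x = 1) :
    N ≤ A ∧ ∀ x ∈ N, ∀ g : G, Commute g x := by
  obtain ⟨a, b, ha, hb, haa, hbb, ha1, hb1, hab⟩ := hC.four
  have hc := comm hC ha hb
  have habne : a * b ≠ 1 := fun e => hab (by rw [← invol_inv hbb]; exact eq_inv_of_mul_eq_one_left e)
  have hab2 : a * b * (a * b) = 1 := by
    rw [mul_assoc, ← mul_assoc b a b, hc.symm.eq, mul_assoc a b b, hbb, mul_one, haa]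
  haveI := hN
  have hle : N ≤ A := Lie.StandardCore.le_of_four haa hbb hc ha1 hb1 hab (odd_card_of h)
    (fun x _ hx => (cent_iff hC ha haa ha1).1 hx) (fun x _ hx => (cent_iff hC hb hbb hb1).1 hx)
    (fun x _ hx => (cent_iff hC (mul_mem ha hb) hab2 habne).1 hx)
  exact ⟨hle, fun x hx g => central_of hC (fun g => hle (hN.conj_mem x hx g)) g⟩

omit hC

theorem ctx_sub (hC : Ctx A) {H : Subgroup G} (hAH : A ≤ H) {c : G} (hcH : c ∈ H) (hcM : c ∉ Hn A) :
    Ctx (A.subgroupOf H) where
  iac t x y htt ht1 hx hy := Subtype.ext (hC.iac (t : G) x y (congrArg Subtype.val htt)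
    (fun e => ht1 (Subtype.ext e)) (congrArg Subtype.val hx) (congrArg Subtype.val hy))
  cent := by
    obtain ⟨t, ht, htt, ht1⟩ := exists_invol hC
    refine ⟨⟨t, hAH ht⟩, Subtype.ext htt, fun e => ht1 (congrArg Subtype.val e), fun x => ?_⟩
    rw [Subgroup.mem_subgroupOf, ← cent_iff hC ht htt ht1]
    exact ⟨fun h => Subtype.ext h.eq, fun h => congrArg Subtype.val h⟩
  nn hn := hcM (Subgroup.mem_normalizer_fintype fun x hx => by
    have := hn.conj_mem ⟨x, hAH hx⟩ hx ⟨c, hcH⟩
    exact this)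
  four := by
    obtain ⟨a, b, ha, hb, haa, hbb, ha1, hb1, hab⟩ := hC.four
    exact ⟨⟨a, hAH ha⟩, ⟨b, hAH hb⟩, ha, hb, Subtype.ext haa, Subtype.ext hbb,
      fun e => ha1 (congrArg Subtype.val e), fun e => hb1 (congrArg Subtype.val e),
      fun e => hab (congrArg Subtype.val e)⟩

theorem sq_central_aux : ∀ (n : ℕ) (G : Type v) [Group G] [Finite G], Nat.card G = n → ∀ A : Subgroup G, Ctx A →
    ∀ a ∈ A, a * a ∈ Subgroup.center G := by
  intro n
  induction n using Nat.strong_induction_on with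
  | _ n IH =>
  intro G _ _ hn A hC a₀ ha₀
  classical
  by_cases hcore : ∀ N : Subgroup G, N.Normal → (∀ x ∈ N, x * x = 1 → x = 1) → N = ⊥
  · have hcen : ∀ z : G, (∀ g : G, Commute g z) → z = 1 := by
      intro z hz
      have := hcore (Subgroup.center G) inferInstance
        fun x hx hxx => center_no_invol hC (fun g => Subgroup.mem_center_iff.1 hx g) hxx
      exact Subgroup.mem_bot.1 (this ▸ Subgroup.mem_center_iff.2 fun g => (hz g).eq)
    by_cases hII : ∀ a ∈ A, a ≠ 1 → ∀ c, Commute c a → c ∈ Hn A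
    · rw [elementary ⟨hC, hII, hcore⟩ a₀ ha₀]; exact one_mem _
    exfalso
    push Not at hII
    obtain ⟨a, ha, ha1, c, hca, hcM⟩ := hII
    have hnoinv : ∀ e ∈ A, e * e = 1 → Commute c e → e = 1 := by
      intro e he hee hce
      by_contra he1
      exact hcM (A_le ((cent_iff hC he hee he1).1 hce))
    have ha_odd : Odd (orderOf a) := by
      by_contra h
      obtain ⟨k, hk, hk1⟩ := invol_pow h
      exact hk1 (hnoinv _ (pow_mem ha k) hk (hca.pow_right k))
    have hsub : ∀ f ∈ A, f ≠ 1 → Commute c f →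
        ∀ x ∈ A, ∀ d, Commute d f → Commute d (x * x) := by
      intro f hf hf1 hcf x hx d hdf
      have hm : ∀ y : G, y ∈ Subgroup.centralizer ({f} : Set G) ↔ Commute y f := fun y =>
        Subgroup.mem_centralizer_singleton_iff
      have hAH : A ≤ Subgroup.centralizer ({f} : Set G) := fun y hy => (hm y).2 (comm hC hy hf)
      have hlt : Nat.card (Subgroup.centralizer ({f} : Set G)) < n := by
        rw [← hn]
        refine (Subgroup.card_le_card_group _).lt_of_ne fun e => hf1 (hcen f fun g => (hm g).1 ?_)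
        rw [Subgroup.eq_top_of_card_eq _ e]
        exact Subgroup.mem_top g
      have := IH _ hlt _ rfl _ (ctx_sub hC hAH ((hm c).2 hcf) hcM) ⟨x, hAH hx⟩ hx
      exact congrArg Subtype.val (Subgroup.mem_center_iff.1 this ⟨d, (hm d).2 hdf⟩)
    obtain ⟨H, hH⟩ : ∃ H, H = Subgroup.centralizer ({a} : Set G) := ⟨_, rfl⟩
    have hm : ∀ y : G, y ∈ H ↔ Commute y a := fun y => by
      rw [hH]; exact Subgroup.mem_centralizer_singleton_iff
    have hAH : A ≤ H := fun y hy => (hm y).2 (comm hC hy ha)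
    have hcH : c ∈ H := (hm c).2 hca
    let F : Subgroup G := A ⊓ Subgroup.centralizer (H : Set G)
    have hFm : ∀ y, y ∈ F ↔ y ∈ A ∧ ∀ h ∈ H, Commute h y := fun y => by
      rw [Subgroup.mem_inf, Subgroup.mem_centralizer_iff]; rfl
    have haF : a ∈ F := (hFm a).2 ⟨ha, fun h hh => (hm h).1 hh⟩
    have hC' := ctx_sub hC hAH hcH hcM
    refine false_of_caseI (H := H) (F := F)
      { ctx := hC
        le_H := ?_
        ne_top := ?_
        F_le := inf_le_left
        Fodd := fun z hz hzz => hnoinv z hz.1 hzz ((((hFm z).1 hz).2 c hcH))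
        F_ne := ⟨a, haF, ha1⟩
        sq := fun x hx => (hFm _).2 ⟨mul_mem hx hx, fun h hh => hsub a ha ha1 hca x hx h ((hm h).1 hh)⟩
        cent := ?_
        gt := ?_ }
    · intro g hg
      obtain ⟨t, ht, htt, ht1⟩ := exists_invol hC
      obtain ⟨h, -, he⟩ := conj_H hC' (t := (⟨t, hAH ht⟩ : H)) (t' := (⟨g * t * g⁻¹, hAH (conj_A hg ht)⟩ : H))
        ht (Subtype.ext htt) (fun e => ht1 (congrArg Subtype.val e)) (conj_A hg ht)
        (Subtype.ext (conj_invol htt)) (fun e => conj_ne ht1 (congrArg Subtype.val e))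
      have he' : (h : G) * t * (h : G)⁻¹ = g * t * g⁻¹ := congrArg Subtype.val he
      have hga : (h : G)⁻¹ * g ∈ A := (cent_iff hC ht htt ht1).1 (by
        show (h : G)⁻¹ * g * t = t * ((h : G)⁻¹ * g)
        calc (h : G)⁻¹ * g * t = (h : G)⁻¹ * (g * t * g⁻¹) * g := by group
          _ = (h : G)⁻¹ * ((h : G) * t * (h : G)⁻¹) * g := by rw [he']
          _ = _ := by group)
      simpa using mul_mem h.2 (hAH hga)
    · by_contra hno
      push Not at hno
      exact ha1 (hcen a fun g => (hm g).1 (hno g))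
    · intro f hf hf1 d
      refine ⟨fun hdf => (hm d).2 ?_, fun hd => ((hFm f).1 hf).2 d hd⟩
      obtain ⟨k, hk⟩ := eq_sq_pow ha_odd
      rw [hk]
      exact (hsub f hf.1 hf1 (((hFm f).1 hf).2 c hcH) a ha d hdf).pow_right k
    · obtain ⟨u, huu, hu⟩ := exists_invol_outside hC'
      refine ⟨u, u.2, congrArg Subtype.val huu, fun h => hu ?_⟩
      exact Subgroup.mem_normalizer_fintype fun x hx => conj_A (A := A) h hx
  · push Not at hcore
    obtain ⟨N, hN, hNinv, hNb⟩ := hcore
    obtain ⟨hNA, hNc⟩ := core_central hC hN hNinv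
    haveI := hN
    have hlt : Nat.card (G ⧸ N) < n := by
      rw [← hn, Subgroup.card_eq_card_quotient_mul_card_subgroup N]
      refine lt_mul_of_one_lt_right Nat.card_pos ?_
      haveI := (Subgroup.nontrivial_iff_ne_bot N).2 hNb
      exact Finite.one_lt_card
    have hlift : ∀ q : G ⧸ N, q * q = 1 → q ≠ 1 → ∃ t : G, t * t = 1 ∧ t ≠ 1 ∧ (t : G ⧸ N) = q := by
      intro q hqq hq1
      obtain ⟨g, rfl⟩ := QuotientGroup.mk_surjective q
      rw [← QuotientGroup.mk_mul, QuotientGroup.eq_one_iff] at hqq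
      have ho : Odd (orderOf (g * g)) := by
        by_contra h
        obtain ⟨k, hk, hk1⟩ := invol_pow h
        exact hk1 (hNinv _ (pow_mem hqq k) hk)
      obtain ⟨k, hk⟩ := ho
      refine ⟨g ^ orderOf (g * g), by rw [← (Commute.refl g).mul_pow, pow_orderOf_eq_one], fun e => hq1 ?_, ?_⟩
      · have e2 : (g : G ⧸ N) = ((g ^ orderOf (g * g) : G) : G ⧸ N) := by
          rw [hk, pow_succ, pow_mul, sq, QuotientGroup.mk_mul,
            (QuotientGroup.eq_one_iff _).2 (pow_mem hqq k), one_mul]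
        rw [e2, e, QuotientGroup.mk_one]
      · rw [hk, pow_succ, pow_mul, sq, QuotientGroup.mk_mul,
          (QuotientGroup.eq_one_iff _).2 (pow_mem hqq k), one_mul]
    have hcl : ∀ x t : G, t * t = 1 → Commute (x : G ⧸ N) t → Commute x t := by
      intro x t htt hxt
      have h1 : (((x * t * x⁻¹ * t⁻¹ : G)) : G ⧸ N) = 1 := by
        rw [QuotientGroup.mk_mul, QuotientGroup.mk_mul, QuotientGroup.mk_mul, QuotientGroup.mk_inv,
          QuotientGroup.mk_inv, hxt.eq, mul_inv_cancel_right, mul_inv_cancel]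
      rw [QuotientGroup.eq_one_iff] at h1
      obtain ⟨z, hzd⟩ : ∃ z, z = x * t * x⁻¹ * t⁻¹ := ⟨_, rfl⟩
      rw [← hzd] at h1
      have hxt' : x * t * x⁻¹ = z * t := by rw [hzd, inv_mul_cancel_right]
      have hzz : z * z = 1 := by
        have e := conj_invol (g := x) htt
        rw [hxt', mul_assoc, ← mul_assoc t z t, (hNc z h1 t).eq, mul_assoc z t t, htt, mul_one] at e
        exact e
      rw [hNinv z h1 hzz, one_mul] at hxt'
      exact mul_inv_eq_iff_eq_mul.1 hxt'
    obtain ⟨t, ht, htt, ht1⟩ := exists_invol hC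
    have hCq : Ctx (A.map (QuotientGroup.mk' N)) :=
      { iac := by
          intro q x y hqq hq1 hx hy
          obtain ⟨s, hss, hs1, rfl⟩ := hlift q hqq hq1
          obtain ⟨x, rfl⟩ := QuotientGroup.mk_surjective x
          obtain ⟨y, rfl⟩ := QuotientGroup.mk_surjective y
          exact (hC.iac s x y hss hs1 (hcl x s hss hx) (hcl y s hss hy)).map (QuotientGroup.mk' N)
        cent := by
          refine ⟨(t : G ⧸ N), ?_, ?_, fun q => ?_⟩
          · rw [← QuotientGroup.mk_mul, htt, QuotientGroup.mk_one]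
          · exact fun e => ht1 (hNinv t ((QuotientGroup.eq_one_iff _).1 e) htt)
          obtain ⟨x, rfl⟩ := QuotientGroup.mk_surjective q
          refine ⟨?_, fun h => ⟨x, (cent_iff hC ht htt ht1).1 (hcl x t htt h), rfl⟩⟩
          rintro ⟨y, hy, hyx⟩
          rw [← hyx]
          exact (comm hC hy ht).map (QuotientGroup.mk' N)
        nn := by
          intro h
          refine hC.nn ?_
          have := h.comap (QuotientGroup.mk' N)
          rwa [Subgroup.comap_map_eq, QuotientGroup.ker_mk', sup_eq_left.2 hNA] at this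
        four := by
          obtain ⟨a, b, ha, hb, haa, hbb, ha1, hb1, hab⟩ := hC.four
          refine ⟨(a : G ⧸ N), (b : G ⧸ N), ⟨a, ha, rfl⟩, ⟨b, hb, rfl⟩, ?_, ?_,
            fun e => ha1 (hNinv a ((QuotientGroup.eq_one_iff _).1 e) haa),
            fun e => hb1 (hNinv b ((QuotientGroup.eq_one_iff _).1 e) hbb), fun e => hab ?_⟩
          · rw [← QuotientGroup.mk_mul, haa, QuotientGroup.mk_one]
          · rw [← QuotientGroup.mk_mul, hbb, QuotientGroup.mk_one]
          · have h2 := QuotientGroup.eq.1 e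
            rw [invol_inv haa] at h2
            have h3 := hNinv _ h2 (by
              rw [mul_assoc, ← mul_assoc b a b, (comm hC hb ha).eq, mul_assoc a b b, hbb, mul_one, haa])
            rw [← invol_inv hbb]
            exact eq_inv_of_mul_eq_one_left h3 }
    refine Subgroup.mem_center_iff.2 fun g => (central_of hC (fun g => ?_) g).eq
    have h1 := Subgroup.mem_center_iff.1 (IH _ hlt (G ⧸ N) rfl _ hCq (a₀ : G ⧸ N) ⟨a₀, ha₀, rfl⟩) (g : G ⧸ N)
    rw [← QuotientGroup.mk_mul, ← QuotientGroup.mk_mul, ← QuotientGroup.mk_mul, QuotientGroup.eq] at h1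
    obtain ⟨z, hzd⟩ : ∃ z, z = (g * (a₀ * a₀))⁻¹ * (a₀ * a₀ * g) := ⟨_, rfl⟩
    rw [← hzd] at h1
    have e : g * (a₀ * a₀) * g⁻¹ = a₀ * a₀ * z⁻¹ := by
      have e1 : g * (a₀ * a₀) = a₀ * a₀ * g * z⁻¹ := by
        rw [hzd, mul_inv_rev, inv_inv, mul_inv_cancel_left]
      rw [e1, mul_assoc (a₀ * a₀) g, (hNc _ (inv_mem h1) g).eq, ← mul_assoc, mul_inv_cancel_right]
    rw [e]
    exact mul_mem (mul_mem ha₀ ha₀) (inv_mem (hNA h1))

theorem sq_central (hC : Ctx A) {a : G} (ha : a ∈ A) : a * a ∈ Subgroup.center G :=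
  sq_central_aux _ G rfl A hC a ha

end Cfsg.Agent.Classical.InvAb
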