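/-
Groups with abelian involution centralizers and noncyclic nonnormal Sylow `2`-subgroups are `SL₂(2ⁿ) × A`.
-/
import Cfsg.Agent.Lib.Classical.InvAb.Main
import Cfsg.Agent.Lib.Solv.UniqueSub
import Cfsg.Agent.Lib.Solv.BrauerReynoldsIdent
import Cfsg.Agent.Lib.Classical.SL2FourSylow
import Cfsg.Agent.Lib.Small.SchurSLFinal
import Cfsg.Agent.S1230

set_option autoImplicit false
set_option linter.unusedSectionVars false
set_option linter.style.haveILetI false

open Cfsg

namespace Cfsg.Agent.Classical.InvAb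

variable {G : Type*} [Group G] [Finite G]

theorem exists_iso (hiac : IAC G) (T : Sylow 2 G) (hnc : ¬ IsCyclic ↥(T : Subgroup G))
    (hnn : ¬ (T : Subgroup G).Normal) :
    ∃ (F : Type) (_ : Field F) (_ : Fintype F) (A : Type) (_ : CommGroup A) (_ : Finite A),
      CharP F 2 ∧ Odd (Nat.card A) ∧ Nonempty (G ≃* Matrix.SpecialLinearGroup (Fin 2) F × A) := by
  classical
  haveI : Fact (Nat.Prime 2) := ⟨Nat.prime_two⟩
  haveI : Nontrivial (T : Subgroup G) := by
    by_contra h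
    rw [not_nontrivial_iff_subsingleton] at h
    exact hnc inferInstance
  haveI := T.isPGroup'.center_nontrivial
  obtain ⟨z, hzo⟩ := exists_prime_orderOf_dvd_card' (G := Subgroup.center (T : Subgroup G)) 2 (by
    obtain ⟨n, hn⟩ := IsPGroup.iff_card.1 (T.isPGroup'.to_subgroup (Subgroup.center (T : Subgroup G)))
    have h1 : 1 < Nat.card (Subgroup.center (T : Subgroup G)) := Finite.one_lt_card
    rcases n with _ | n
    · rw [hn, pow_zero] at h1; omega
    · rw [hn]; exact dvd_pow_self 2 (by omega))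
  obtain ⟨t, htd⟩ : ∃ t : G, t = ((z : (T : Subgroup G)) : G) := ⟨_, rfl⟩
  have hto : orderOf t = 2 := by
    rw [htd, Subgroup.orderOf_coe, Subgroup.orderOf_coe]; exact hzo
  have htt : t * t = 1 := by have h := pow_orderOf_eq_one t; rwa [hto, sq] at h
  have ht1 : t ≠ 1 := fun e => by rw [e, orderOf_one] at hto; omega
  obtain ⟨A, hA⟩ : ∃ A, A = Subgroup.centralizer ({t} : Set G) := ⟨_, rfl⟩
  have hm : ∀ x, x ∈ A ↔ Commute x t := fun x => by rw [hA]; exact Subgroup.mem_centralizer_singleton_iff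
  have hTA : ∀ x ∈ (T : Subgroup G), x ∈ A := fun x hx => (hm x).2
    (htd ▸ congrArg Subtype.val (Subgroup.mem_center_iff.1 z.2 ⟨x, hx⟩))
  have hAc : ∀ {x y : G}, x ∈ A → y ∈ A → Commute x y := fun hx hy =>
    hiac t _ _ htt ht1 ((hm _).1 hx) ((hm _).1 hy)
  have htT : t ∈ (T : Subgroup G) := htd ▸ (z : (T : Subgroup G)).2
  have htwo : ∀ x ∈ A, (∃ k : ℕ, x ^ 2 ^ k = 1) → x ∈ (T : Subgroup G) := by
    rintro x hx ⟨k, hk⟩
    have hp : IsPGroup 2 (Subgroup.zpowers x) := by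
      obtain ⟨i, -, hi⟩ := (Nat.dvd_prime_pow Nat.prime_two).1 (orderOf_dvd_of_pow_eq_one hk)
      exact IsPGroup.of_card (n := i) (by rw [Nat.card_zpowers]; exact hi)
    have hle : Subgroup.zpowers x ≤ Subgroup.normalizer ((T : Subgroup G) : Set G) := by
      rw [Subgroup.zpowers_le]
      refine Subgroup.mem_normalizer_fintype fun y hy => ?_
      rw [(hAc hx (hTA y hy)).eq, mul_inv_cancel_right]; exact hy
    have := T.is_maximal' (hp.to_sup_of_normal_right' T.isPGroup' hle) le_sup_right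
    exact this ▸ Subgroup.mem_sup_left (Subgroup.mem_zpowers x)
  have hT2 : ∀ y ∈ (T : Subgroup G), ∃ k : ℕ, y ^ 2 ^ k = 1 := fun y hy => by
    obtain ⟨k, hk⟩ := T.isPGroup' ⟨y, hy⟩
    exact ⟨k, congrArg Subtype.val hk⟩
  have hC : Ctx A := by
    refine ⟨hiac, ⟨t, htt, ht1, hm⟩, fun hn => hnn ⟨fun y hy g => ?_⟩, ?_⟩
    · obtain ⟨k, hk⟩ := hT2 y hy
      refine htwo _ (hn.conj_mem y (hTA y hy) g) ⟨k, ?_⟩
      rw [conj_pow, hk]; group
    · by_contra hno
      push Not at hno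
      have hu : Solv.UniqueOrderP 2 ↥(T : Subgroup G) := by
        rintro ⟨x, hxT⟩ ⟨y, hyT⟩ hx hy hy1
        by_cases hx1 : x = 1
        · subst hx1
          exact one_mem _
        have hxy : x = y := hno x y (hTA x hxT) (hTA y hyT)
          (by have := congrArg Subtype.val hx; simpa [sq] using this)
          (by have := congrArg Subtype.val hy; simpa [sq] using this) hx1 (fun e => hy1 (Subtype.ext e))
        subst hxy
        exact Subgroup.mem_zpowers _
      obtain ⟨a, -, ha⟩ := Solv.abelian_cyclic_of_unique T.isPGroup' hu ⊤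
        (fun x _ y _ => Subtype.ext (hAc (hTA x x.2) (hTA y y.2)).eq)
      exact hnc (isCyclic_iff_exists_zpowers_eq_top.2 ⟨a, ha.symm⟩)
  obtain ⟨Z, hZ⟩ : ∃ Z, Z = Subgroup.center G := ⟨_, rfl⟩
  haveI hZn : Z.Normal := hZ ▸ inferInstance
  have hZc : ∀ x ∈ Z, ∀ g : G, Commute g x := fun x hx g => Subgroup.mem_center_iff.1 (hZ ▸ hx) g
  have hZinv : ∀ x ∈ Z, x * x = 1 → x = 1 := fun x hx => center_no_invol hC (hZc x hx)
  have hZA : ∀ x ∈ Z, x ∈ A := fun x hx => (hm x).2 (hZc x hx t).symm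
  have hTZ : ∀ x ∈ (T : Subgroup G), x ∈ Z → x = 1 := by
    intro x hxT hxZ
    by_contra hx1
    obtain ⟨k, hk⟩ := hT2 x hxT
    obtain ⟨i, -, hi⟩ := (Nat.dvd_prime_pow Nat.prime_two).1 (orderOf_dvd_of_pow_eq_one hk)
    rcases i with _ | i
    · rw [pow_zero, orderOf_eq_one_iff] at hi; exact hx1 hi
    · obtain ⟨j, hj, hj1⟩ := invol_pow (x := x) (by rw [hi, Nat.not_odd_iff_even]; exact Nat.even_pow.2 ⟨even_two, by omega⟩)
      exact hj1 (hZinv _ (pow_mem hxZ j) hj)
  let π := QuotientGroup.mk' Z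
  let Tq : Sylow 2 (G ⧸ Z) := T.mapSurjective (QuotientGroup.mk'_surjective Z)
  have hTq : (Tq : Subgroup (G ⧸ Z)) = (T : Subgroup G).map π := Sylow.coe_mapSurjective _ _
  have hinj : Function.Injective (π.comp (T : Subgroup G).subtype) := by
    rw [injective_iff_map_eq_one]
    rintro ⟨x, hx⟩ h
    exact Subtype.ext (hTZ x hx ((QuotientGroup.eq_one_iff x).1 h))
  have hrange : (π.comp (T : Subgroup G).subtype).range = (T : Subgroup G).map π := by
    rw [MonoidHom.range_comp, Subgroup.range_subtype]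
  have eT : ↥(T : Subgroup G) ≃* ↥(Tq : Subgroup (G ⧸ Z)) :=
    (MonoidHom.ofInjective hinj).trans (MulEquiv.subgroupCongr (hrange.trans hTq.symm))
  have hncq : ¬ IsCyclic ↥(Tq : Subgroup (G ⧸ Z)) := fun h => hnc (eT.isCyclic.2 h)
  have hnnq : ¬ (Tq : Subgroup (G ⧸ Z)).Normal := by
    intro h
    refine hnn ⟨fun y hy g => ?_⟩
    have h1 := h.conj_mem (π y) (hTq ▸ Subgroup.mem_map_of_mem π hy) (π g)
    rw [hTq] at h1
    obtain ⟨y', hy', e⟩ := h1
    rw [← map_inv, ← map_mul, ← map_mul] at e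
    have hgy : g * y * g⁻¹ ∈ A := by
      have h2 := QuotientGroup.eq.1 (show ((y' : G) : G ⧸ Z) = ((g * y * g⁻¹ : G) : G ⧸ Z) from e)
      simpa using mul_mem (hTA y' hy') (hZA _ h2)
    obtain ⟨k, hk⟩ := hT2 y hy
    exact htwo _ hgy ⟨k, by rw [conj_pow, hk]; group⟩
  have hlift : ∀ q : G ⧸ Z, orderOf q = 2 → ∃ s : G, s * s = 1 ∧ s ≠ 1 ∧ (s : G ⧸ Z) = q := by
    intro q hq
    obtain ⟨g, rfl⟩ := QuotientGroup.mk_surjective q
    have hqq := pow_orderOf_eq_one (g : G ⧸ Z)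
    rw [hq, sq, ← QuotientGroup.mk_mul, QuotientGroup.eq_one_iff] at hqq
    have ho : Odd (orderOf (g * g)) := by
      by_contra h
      obtain ⟨k, hk, hk1⟩ := invol_pow h
      exact hk1 (hZinv _ (pow_mem hqq k) hk)
    obtain ⟨k, hk⟩ := ho
    have e2 : ((g ^ orderOf (g * g) : G) : G ⧸ Z) = (g : G ⧸ Z) := by
      rw [hk, pow_succ, pow_mul, sq, QuotientGroup.mk_mul,
        (QuotientGroup.eq_one_iff _).2 (pow_mem hqq k), one_mul]
    refine ⟨g ^ orderOf (g * g), by rw [← (Commute.refl g).mul_pow, pow_orderOf_eq_one], fun e => ?_, e2⟩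
    rw [e, QuotientGroup.mk_one] at e2
    rw [← e2, orderOf_one] at hq
    omega
  have hCq : ∀ q : G ⧸ Z, orderOf q = 2 → IsMulCommutative (Subgroup.centralizer ({q} : Set (G ⧸ Z))) ∧
      ∀ c ∈ Subgroup.centralizer ({q} : Set (G ⧸ Z)), c ^ 2 = 1 := by
    intro q hq
    obtain ⟨s, hss, hs1, rfl⟩ := hlift q hq
    have hcl : ∀ x : G, (x : G ⧸ Z) ∈ Subgroup.centralizer ({(s : G ⧸ Z)} : Set (G ⧸ Z)) → Commute x s := by
      intro x hx
      rw [Subgroup.mem_centralizer_singleton_iff, ← QuotientGroup.mk_mul, ← QuotientGroup.mk_mul,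
        QuotientGroup.eq] at hx
      obtain ⟨w, hwd⟩ : ∃ w, w = (x * s)⁻¹ * (s * x) := ⟨_, rfl⟩
      rw [← hwd] at hx
      have e : x⁻¹ * s * x = s * w := by rw [hwd, mul_inv_rev, invol_inv hss, ← mul_assoc, ← mul_assoc, ← mul_assoc, hss, one_mul]
      have hww : w * w = 1 := by
        have e2 := conj_invol (g := x⁻¹) hss
        rw [inv_inv, e, mul_assoc, ← mul_assoc w s w, ← (hZc w hx s).eq, mul_assoc s w w, ← mul_assoc, hss,
          one_mul] at e2
        exact e2
      rw [hZinv w hx hww, mul_one] at e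
      show x * s = s * x
      calc x * s = x * (x⁻¹ * s * x) := by rw [e]
        _ = s * x := by group
    constructor
    · refine ⟨⟨?_⟩⟩
      rintro ⟨a, ha⟩ ⟨b, hb⟩
      obtain ⟨a, rfl⟩ := QuotientGroup.mk_surjective a
      obtain ⟨b, rfl⟩ := QuotientGroup.mk_surjective b
      exact Subtype.ext ((hiac s a b hss hs1 (hcl a ha) (hcl b hb)).map π).eq
    · intro c hc
      obtain ⟨x, rfl⟩ := QuotientGroup.mk_surjective c
      obtain ⟨k, hk⟩ := cent_conj hC ((hm t).2 (Commute.refl t)) htt ht1 hss hs1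
      obtain ⟨h, hh⟩ : ∃ h, h = (s * t) ^ k := ⟨_, rfl⟩
      simp only [← hh] at hk
      have h1 := sq_central hC ((hk x).1 (hcl x hc))
      rw [← hZ] at h1
      have h2 := hZn.conj_mem _ h1 h
      rw [show h * (h⁻¹ * x * h * (h⁻¹ * x * h)) * h⁻¹ = x * x by group] at h2
      rw [sq, ← QuotientGroup.mk_mul, QuotientGroup.eq_one_iff]
      exact h2
  obtain ⟨F, instF, instFt, hF, ⟨e⟩⟩ := S1230.result Tq hncq hnnq hCq
  obtain ⟨m, hm'⟩ := IsPGroup.iff_card.1 Tq.isPGroup'
  have hFm : Fintype.card F = 2 ^ m := hF.trans hm'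
  have hm2 : 2 ≤ m := by
    by_contra h
    refine hncq ?_
    rcases (show m = 0 ∨ m = 1 by omega) with e' | e'
    · haveI : Subsingleton ↥(Tq : Subgroup (G ⧸ Z)) :=
        Finite.card_le_one_iff_subsingleton.1 (by rw [hm', e', pow_zero])
      infer_instance
    · exact isCyclic_of_prime_card (p := 2) (by rw [hm', e', pow_one])
  have hchar : CharP F 2 := by
    haveI := FiniteField.card F (ringChar F)
    obtain ⟨n, hp, hn⟩ := FiniteField.card F (ringChar F)
    have : ringChar F = 2 := by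
      rw [hFm] at hn
      have h2 : ringChar F ∣ 2 ^ m := hn ▸ dvd_pow_self _ n.ne_zero
      exact (Nat.prime_dvd_prime_iff_eq hp Nat.prime_two).1 (hp.dvd_of_dvd_pow h2)
    exact this ▸ ringChar.charP F
  obtain ⟨i⟩ := Solv.BReyn.sl_to_psl (G := Matrix.SpecialLinearGroup (Fin 2) F) (m := m) (by omega) F hFm ⟨MulEquiv.refl _⟩
  let φ : G →* Matrix.SpecialLinearGroup (Fin 2) F := (e.trans i.symm).toMonoidHom.comp π
  have hφs : Function.Surjective φ := (e.trans i.symm).surjective.comp (QuotientGroup.mk'_surjective Z)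
  have hφk : ∀ x, φ x = 1 ↔ x ∈ Z := fun x => by
    show (e.trans i.symm) (π x) = 1 ↔ _
    rw [map_eq_one_iff _ (e.trans i.symm).injective]
    exact QuotientGroup.eq_one_iff x
  haveI : Finite (Matrix.SpecialLinearGroup (Fin 2) F) := Finite.of_surjective φ hφs
  have hinter : ∀ x, x ∈ Z → x ∈ commutator G → x = 1 := by
    intro x hxZ hxC
    by_contra hx1
    obtain ⟨ℓ, hl, hd⟩ := Nat.exists_prime_and_dvd (fun e => hx1 (orderOf_eq_one_iff.1 e))
    haveI := Fact.mk hl
    obtain ⟨n, hn⟩ := hd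
    have hpos := orderOf_pos x
    have hn0 : n ≠ 0 := fun e => by rw [e, mul_zero] at hn; omega
    obtain ⟨y, hyd⟩ : ∃ y, y = x ^ n := ⟨_, rfl⟩
    have hy1 : y ≠ 1 := hyd ▸ pow_ne_one_of_lt_orderOf hn0 (by
      rw [hn]; exact lt_mul_of_one_lt_left (Nat.pos_of_ne_zero hn0) hl.one_lt)
    have hyl : y ^ ℓ = 1 := by rw [hyd, ← pow_mul, mul_comm, ← hn, pow_orderOf_eq_one]
    have hyZ : y ∈ Z := hyd ▸ pow_mem hxZ n
    have hyC : y ∈ commutator G := hyd ▸ pow_mem hxC n
    have hl2 : ℓ ≠ 2 := by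
      rintro rfl
      exact hy1 (hZinv y hyZ (by rwa [sq] at hyl))
    obtain ⟨P⟩ : Nonempty (Sylow ℓ G) := inferInstance
    haveI hyn : (Subgroup.zpowers y).Normal := ⟨fun w hw g => by
      obtain ⟨j, rfl⟩ := Subgroup.mem_zpowers_iff.1 hw
      rw [((hZc y hyZ g).zpow_right j).eq, mul_inv_cancel_right]
      exact Subgroup.zpow_mem_zpowers y j⟩
    have hyp : IsPGroup ℓ (Subgroup.zpowers y) := IsPGroup.of_card (n := 1) (by
      rw [Nat.card_zpowers, orderOf_eq_prime hyl hy1, pow_one])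
    have hyP : y ∈ (P : Subgroup G) := hyp.le_sylow_of_normal P (Subgroup.mem_zpowers y)
    obtain ⟨R, hR⟩ := (P.isPGroup'.map φ).exists_le_sylow
    haveI := Classical.SL2Four.sylow_odd_cyclic 2 ℓ hl2 hl2 R
    haveI : IsCyclic ↥((P : Subgroup G).map φ) :=
      isCyclic_of_injective (Subgroup.inclusion hR) (Subgroup.inclusion_injective hR)
    have hPc : ∀ a b : ↥(P : Subgroup G), a * b = b * a :=
      commutative_of_cyclic_center_quotient (φ.subgroupMap (P : Subgroup G)) fun a ha =>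
        Subgroup.mem_center_iff.2 fun g => Subtype.ext (hZc _ ((hφk _).1 (congrArg Subtype.val ha)) g)
    letI : CommGroup ↥(P : Subgroup G) := { (inferInstance : Group ↥(P : Subgroup G)) with mul_comm := hPc }
    have htr := MonoidHom.transfer_eq_pow (MonoidHom.id ↥(P : Subgroup G)) y fun k g₀ _ => by
      rw [mul_assoc, ← ((hZc y hyZ g₀).pow_right k).eq, inv_mul_cancel_left]
    have h0 : MonoidHom.transfer (MonoidHom.id ↥(P : Subgroup G)) y = 1 :=
      Abelianization.commutator_subset_ker _ hyC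
    rw [h0] at htr
    have h1 : y ^ (P : Subgroup G).index = 1 := congrArg Subtype.val htr.symm
    have h2 : ℓ ∣ (P : Subgroup G).index := by
      have h3 := orderOf_dvd_of_pow_eq_one h1
      have h4 : orderOf y = ℓ := orderOf_eq_prime hyl hy1
      exact h4.symm.dvd.trans h3
    exact P.not_dvd_index h2
  have hperf : (commutator G).map φ = ⊤ := by
    rw [commutator_def, Subgroup.map_commutator, ← MonoidHom.range_eq_map, MonoidHom.range_eq_top.2 hφs,
      ← commutator_def]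
    refine Small.SchurSLFinal.perfect 2 le_rfl fun _ => ?_
    rw [hFm]
    exact Nat.pow_le_pow_right (n := 2) two_pos hm2
  have hb : Function.Bijective (φ.comp (commutator G).subtype) := by
    refine ⟨?_, fun y => ?_⟩
    · rw [injective_iff_map_eq_one]
      rintro ⟨x, hx⟩ h
      exact Subtype.ext (hinter x ((hφk x).1 h) hx)
    · obtain ⟨x, hx, e⟩ := (hperf ▸ Subgroup.mem_top y : y ∈ (commutator G).map φ)
      exact ⟨⟨x, hx⟩, e⟩
  let σ : Matrix.SpecialLinearGroup (Fin 2) F →* G :=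
    (commutator G).subtype.comp (MulEquiv.ofBijective _ hb).symm.toMonoidHom
  have hφσ : ∀ s, φ (σ s) = s := fun s => (MulEquiv.ofBijective _ hb).apply_symm_apply s
  have hσC : ∀ s, σ s ∈ commutator G := fun s => ((MulEquiv.ofBijective _ hb).symm s).2
  let Θ : Matrix.SpecialLinearGroup (Fin 2) F × ↥Z →* G :=
    MonoidHom.noncommCoprod σ Z.subtype fun s w => hZc w w.2 (σ s)
  have hΘ : Function.Bijective Θ := by
    refine ⟨?_, fun g => ?_⟩
    · rw [injective_iff_map_eq_one]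
      rintro ⟨s, w⟩ h
      change σ s * (w : G) = 1 at h
      have hs : s = 1 := by
        calc s = φ (σ s) * φ w := by rw [hφσ, (hφk w).2 w.2, mul_one]
          _ = 1 := by rw [← map_mul, h, map_one]
      subst hs
      rw [map_one, one_mul] at h
      exact Prod.ext rfl (Subtype.ext h)
    · refine ⟨(φ g, ⟨(σ (φ g))⁻¹ * g, (hφk _).1 (by rw [map_mul, map_inv, hφσ, inv_mul_cancel])⟩), ?_⟩
      show σ (φ g) * ((σ (φ g))⁻¹ * g) = g
      rw [mul_inv_cancel_left]
  letI : CommGroup ↥Z := { (inferInstance : Group ↥Z) with mul_comm := fun a b => Subtype.ext (hZc b b.2 a).eq }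
  haveI : Finite (Shrink.{0} ↥Z) := Finite.of_equiv _ (equivShrink.{0} ↥Z)
  refine ⟨F, instF, instFt, Shrink.{0} ↥Z, inferInstance, inferInstance, hchar, ?_, ⟨?_⟩⟩
  · rw [← Nat.card_congr (equivShrink.{0} ↥Z)]
    exact odd_card_of hZinv
  · exact (MulEquiv.ofBijective Θ hΘ).symm.trans ((MulEquiv.refl _).prodCongr Shrink.mulEquiv.symm)

end Cfsg.Agent.Classical.InvAb
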